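import Cfsg.Agent.Classification.SmallGraph.Degrees
import Cfsg.Agent.Classification.OrderRange.Block
import Cfsg.Agent.Classification.Order5616.Main
import Cfsg.Agent.Linear.Perfect
import Cfsg.Agent.Linear.Basic
import Cfsg.Agent.Classification.SimpleSixty
import Cfsg.Agent.S0495
import Cfsg.Agent.S0497
import Cfsg.Agent.S0498
import Cfsg.Agent.S0981
import Cfsg.Agent.S0984
import Cfsg.Agent.S1011
import Cfsg.Agent.S1020
import Cfsg.Agent.S1021
import Cfsg.Agent.S4774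
import Cfsg.Agent.S4812

/-!
# The simple groups of order below 6000: uniqueness and their degree graphs
-/

set_option autoImplicit false
set_option linter.style.haveILetI false

namespace CfsgLib.Classification.SmallGraph

open Cfsg CfsgLib.Small CfsgLib.Classification.SmallOrders CfsgLib.Classification.OrderRange
open CfsgLib.PrincipalBlock CfsgLib.Blocks CfsgLib.BlocksFrobenius

universe u v

theorem galois_card (n : ℕ) (hn : n ≠ 0) [Fintype (GaloisField 2 n)] :
    Fintype.card (GaloisField 2 n) = 2 ^ n := by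
  rw [← Nat.card_eq_fintype_card, GaloisField.card 2 n hn]

/-- Two simple groups of one of the orders below 6000 are isomorphic. -/
theorem nonempty_iso {G : Type u} [Group G] [Finite G] [IsSimpleGroup G] {S : Type v} [Group S]
    [Finite S] [IsSimpleGroup S] {n : ℕ} (hG : Nat.card G = n) (hS : Nat.card S = n)
    (hn : n ∈ [60, 168, 360, 504, 660, 1092, 2448, 2520, 3420, 4080, 5616]) :
    Nonempty (G ≃* S) := by
  haveI : Fact (Nat.Prime 7) := ⟨by norm_num⟩
  haveI : Fact (Nat.Prime 11) := ⟨by norm_num⟩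
  haveI : Fact (Nat.Prime 13) := ⟨by norm_num⟩
  haveI : Fact (Nat.Prime 17) := ⟨by norm_num⟩
  haveI : Fact (Nat.Prime 19) := ⟨by norm_num⟩
  letI := Fintype.ofFinite (GaloisField 2 3)
  letI := Fintype.ofFinite (GaloisField 2 4)
  simp only [List.mem_cons, List.not_mem_nil, or_false] at hn
  rcases hn with rfl | rfl | rfl | rfl | rfl | rfl | rfl | rfl | rfl | rfl | rfl
  · exact ⟨(nonempty_equiv_alternating_five hG).some.trans
      (nonempty_equiv_alternating_five hS).some.symm⟩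
  · exact ⟨(Cfsg.Agent.S0495.result hG (F := ZMod 7) (ZMod.card 7)).some.trans
      (Cfsg.Agent.S0495.result hS (F := ZMod 7) (ZMod.card 7)).some.symm⟩
  · exact ⟨(Cfsg.Agent.S0497.result hG).some.trans (Cfsg.Agent.S0497.result hS).some.symm⟩
  · exact ⟨(Cfsg.Agent.S1011.result hG (F := GaloisField 2 3) (galois_card 3 (by norm_num))).some.trans
      (Cfsg.Agent.S1011.result hS (F := GaloisField 2 3) (galois_card 3 (by norm_num))).some.symm⟩
  · exact ⟨(Cfsg.Agent.S0498.result 11 (Or.inl rfl) (by rw [hG]; rfl) (F := ZMod 11) (ZMod.card 11)).some.trans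
      (Cfsg.Agent.S0498.result 11 (Or.inl rfl) (by rw [hS]; rfl) (F := ZMod 11) (ZMod.card 11)).some.symm⟩
  · exact ⟨(Cfsg.Agent.S0498.result 13 (Or.inr rfl) (by rw [hG]; rfl) (F := ZMod 13) (ZMod.card 13)).some.trans
      (Cfsg.Agent.S0498.result 13 (Or.inr rfl) (by rw [hS]; rfl) (F := ZMod 13) (ZMod.card 13)).some.symm⟩
  · exact ⟨(Cfsg.Agent.S1020.result hG (F := ZMod 17) (ZMod.card 17)).some.trans
      (Cfsg.Agent.S1020.result hS (F := ZMod 17) (ZMod.card 17)).some.symm⟩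
  · exact ⟨(Cfsg.Agent.S0984.result hG).some.trans (Cfsg.Agent.S0984.result hS).some.symm⟩
  · exact ⟨(Cfsg.Agent.S1021.result hG (F := ZMod 19) (ZMod.card 19)).some.trans
      (Cfsg.Agent.S1021.result hS (F := ZMod 19) (ZMod.card 19)).some.symm⟩
  · exact ⟨(Cfsg.Agent.S0981.result hG (F := GaloisField 2 4) (galois_card 4 (by norm_num))).some.trans
      (Cfsg.Agent.S0981.result hS (F := GaloisField 2 4) (galois_card 4 (by norm_num))).some.symm⟩
  · exact CfsgLib.Classification.Order5616.nonempty_mulEquiv hG hS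

variable {S : Type u} [Group S] [Finite S] [IsSimpleGroup S]

/-- The degree graph of a group isomorphic to `PSL₂(p)`. -/
theorem graph_psl {p : ℕ} [Fact p.Prime] (h5 : 5 < p)
    (e : Nonempty (S ≃* Matrix.ProjectiveSpecialLinearGroup (Fin 2) (ZMod p))) :
    (∀ r, r.Prime → r ∣ p * (p ^ 2 - 1) → r ∈ Cfsg.degreePrimes S) ∧
      ∀ r s : ℕ, (Cfsg.degreeGraph S).Adj r s ↔ (r ≠ s ∧ r.Prime ∧ s.Prime ∧ r ∣ p ^ 2 - 1 ∧
        s ∣ p ^ 2 - 1 ∧ (r = 2 ∨ s = 2 ∨ (r ∣ p + 1 ∧ s ∣ p + 1) ∨ (r ∣ p - 1 ∧ s ∣ p - 1))) := by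
  obtain ⟨h1, h2⟩ := Cfsg.Agent.S4774.result (ZMod p) p (by omega) p (ZMod.card p) h5 (Or.inl e)
  exact ⟨fun r hr hd => h1 ▸ ⟨hr, hd⟩, h2⟩

theorem primes_168 (h : Nat.card S = 168) :
    2 ∈ Cfsg.degreePrimes S ∧ 7 ∈ Cfsg.degreePrimes S ∧ (Cfsg.degreeGraph S).Adj 2 3 := by
  haveI : Fact (Nat.Prime 7) := ⟨by norm_num⟩
  obtain ⟨h1, h2⟩ := graph_psl (p := 7) (by norm_num) (Cfsg.Agent.S0495.result h (ZMod.card 7))
  exact ⟨h1 2 Nat.prime_two (by norm_num), h1 7 (by norm_num) (by norm_num),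
    (h2 2 3).2 ⟨by norm_num, Nat.prime_two, Nat.prime_three, by norm_num, by norm_num, Or.inl rfl⟩⟩

theorem primes_504 (h : Nat.card S = 504) :
    2 ∈ Cfsg.degreePrimes S ∧ 7 ∈ Cfsg.degreePrimes S ∧ ¬ (Cfsg.degreeGraph S).Adj 2 3 := by
  letI := Fintype.ofFinite (GaloisField 2 3)
  have hF := galois_card 3 (by norm_num)
  obtain ⟨h1, h2⟩ := Cfsg.Agent.S4812.result (GaloisField 2 3) 8 (by rw [hF]; norm_num) (by norm_num)
    (Or.inl (Cfsg.Agent.S1011.result h (by rw [hF]; norm_num)))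
  refine ⟨h1 ▸ ⟨Nat.prime_two, by norm_num⟩, h1 ▸ ⟨by norm_num, by norm_num⟩, fun hadj => ?_⟩
  have := ((h2 2 3).1 hadj).2.2.2
  norm_num at this

theorem primes_4080 (h : Nat.card S = 4080) : 17 ∈ Cfsg.degreePrimes S := by
  letI := Fintype.ofFinite (GaloisField 2 4)
  have hF := galois_card 4 (by norm_num)
  obtain ⟨h1, -⟩ := Cfsg.Agent.S4812.result (GaloisField 2 4) 16 (by rw [hF]; norm_num) (by norm_num)
    (Or.inl (Cfsg.Agent.S0981.result h (by rw [hF]; norm_num)))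
  exact h1 ▸ ⟨by norm_num, by norm_num⟩

theorem primes_360 (h : Nat.card S = 360) :
    3 ∈ Cfsg.degreePrimes S ∧ (Cfsg.degreeGraph S).Adj 2 5 ∧ ¬ (Cfsg.degreeGraph S).Adj 2 3 ∧
      ¬ (Cfsg.degreeGraph S).Adj 3 5 := by
  haveI : Fact (Nat.Prime 3) := ⟨Nat.prime_three⟩
  letI := Fintype.ofFinite (GaloisField 3 2)
  have hF : Fintype.card (GaloisField 3 2) = 9 := by
    rw [← Nat.card_eq_fintype_card, GaloisField.card 3 2 two_ne_zero]; norm_num
  haveI : IsSimpleGroup (Matrix.ProjectiveSpecialLinearGroup (Fin 2) (GaloisField 3 2)) :=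
    CfsgLib.Linear.isSimpleGroup_PSL_of 2 le_rfl fun _ => by omega
  have hcard : Nat.card (Matrix.ProjectiveSpecialLinearGroup (Fin 2) (GaloisField 3 2)) = 360 := by
    have := CfsgLib.Linear.card_PSL_two_odd (F := GaloisField 3 2) (by rw [hF]; decide)
    rw [hF] at this
    omega
  obtain ⟨h1, h2⟩ := Cfsg.Agent.S4774.result (GaloisField 3 2) 3 (by norm_num) 9 hF (by norm_num)
    (Or.inl ⟨(Cfsg.Agent.S0497.result h).some.trans (Cfsg.Agent.S0497.result hcard).some.symm⟩)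
  refine ⟨h1 ▸ ⟨Nat.prime_three, by norm_num⟩,
    (h2 2 5).2 ⟨by norm_num, Nat.prime_two, by norm_num, by norm_num, by norm_num, Or.inl rfl⟩,
    fun hadj => ?_, fun hadj => ?_⟩
  · have := ((h2 2 3).1 hadj).2.2.2
    norm_num at this
  · have := ((h2 3 5).1 hadj).2.2.2
    norm_num at this

theorem primes_large :
    (Nat.card S = 660 → 11 ∈ Cfsg.degreePrimes S) ∧ (Nat.card S = 1092 → 13 ∈ Cfsg.degreePrimes S) ∧
      (Nat.card S = 2448 → 17 ∈ Cfsg.degreePrimes S) ∧
      (Nat.card S = 3420 → 19 ∈ Cfsg.degreePrimes S) := by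
  refine ⟨fun h => ?_, fun h => ?_, fun h => ?_, fun h => ?_⟩
  · haveI : Fact (Nat.Prime 11) := ⟨by norm_num⟩
    exact (graph_psl (p := 11) (by norm_num) (Cfsg.Agent.S0498.result 11 (Or.inl rfl) (by rw [h]; rfl)
      (ZMod.card 11))).1 11 (by norm_num) (by norm_num)
  · haveI : Fact (Nat.Prime 13) := ⟨by norm_num⟩
    exact (graph_psl (p := 13) (by norm_num) (Cfsg.Agent.S0498.result 13 (Or.inr rfl) (by rw [h]; rfl)
      (ZMod.card 13))).1 13 (by norm_num) (by norm_num)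
  · haveI : Fact (Nat.Prime 17) := ⟨by norm_num⟩
    exact (graph_psl (p := 17) (by norm_num) (Cfsg.Agent.S1020.result h (ZMod.card 17))).1 17
      (by norm_num) (by norm_num)
  · haveI : Fact (Nat.Prime 19) := ⟨by norm_num⟩
    exact (graph_psl (p := 19) (by norm_num) (Cfsg.Agent.S1021.result h (ZMod.card 19))).1 19
      (by norm_num) (by norm_num)

/-- The degrees of a self-centralizing Sylow subgroup's block cannot be all degrees. -/
theorem mem_degreePrimes_of_block {N p : ℕ} [hp : Fact p.Prime] (hna : ¬ IsMulCommutative S)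
    (hN : Nat.card S = N) (hp5 : 5 ≤ p) (P : Sylow p S) (hP : Nat.card (P : Subgroup S) = p)
    (hC : Subgroup.centralizer ((P : Subgroup S) : Set S) = (P : Subgroup S))
    (hn : Nat.card (Subgroup.normalizer ((P : Subgroup S) : Set S)) = p * 3) (B : ℕ)
    (hB : N < B * B)
    (hcheck : ∀ a < B, ∀ b < B, ∀ d < B,
      (a % p = 1 ∨ a % p = p - 1) → N % a = 0 → (b % p = 1 ∨ b % p = p - 1) → N % b = 0 →
      (d % p = 3 ∨ d % p = p - 3) → N % d = 0 → 2 ≤ a → 2 ≤ b → 2 ≤ d →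
      1 + (a * a + b * b) + (p - 1) / 3 * (d * d) ≠ N) :
    p ∈ Cfsg.degreePrimes S := by
  classical
  haveI := Fintype.ofFinite S
  have hperf := SmallOrders.commutator_eq_top hna
  have Sc : LargePrime.Core P := ⟨hperf, hP, hC⟩
  obtain ⟨D⟩ := Sc.exists_blockData
  have he : LargePrime.eIdx P = 3 := by
    have h := (P : Subgroup S).relIndex_mul_relIndex (K := ⊥) (L := Subgroup.normalizer ((P : Subgroup S) : Set S))
    have h1 := Subgroup.card_mul_index ((P : Subgroup S).subgroupOf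
      (Subgroup.normalizer ((P : Subgroup S) : Set S)))
    rw [Nat.card_congr (Subgroup.subgroupOfEquivOfLe Subgroup.le_normalizer).toEquiv, hP, hn] at h1
    exact Nat.eq_of_mul_eq_mul_left hp.out.pos h1
  by_contra hno
  have hnd : ∀ χ : IrrCharacter S, ¬ p ∣ Cfsg.charDegree (χ : S → ℂ) := fun χ h =>
    hno ⟨hp.out, _, ⟨χ, rfl⟩, h⟩
  have huniv : (Finset.univ : Finset (IrrCharacter S)) = D.X ∪ D.Y := by
    refine Finset.ext fun χ => ⟨fun _ => ?_, fun _ => Finset.mem_univ χ⟩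
    rw [Finset.mem_union]
    by_contra h
    push Not at h
    exact hnd χ ⟨_, D.deg_out' Sc (D.mem_out.2 h)⟩
  have hdvd : ∀ ψ : IrrCharacter S, N % Cfsg.charDegree (ψ : S → ℂ) = 0 := fun ψ =>
    Nat.mod_eq_zero_of_dvd (hN ▸ Blocks.charDegree_dvd_card ψ) ▸ rfl
  have hlt : ∀ ψ : IrrCharacter S, Cfsg.charDegree (ψ : S → ℂ) < B := fun ψ => by
    have h1 : Cfsg.charDegree (ψ : S → ℂ) ^ 2 ≤ N := hN ▸ LargePrime.sum_charDegree_sq (G := S) ▸
      Finset.single_le_sum (f := fun ψ : IrrCharacter S => Cfsg.charDegree (ψ : S → ℂ) ^ 2)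
        (fun _ _ => Nat.zero_le _) (Finset.mem_univ ψ)
    nlinarith only [h1, hB]
  have h2 : ∀ ψ : IrrCharacter S, ψ ≠ trivChar S → 2 ≤ Cfsg.charDegree (ψ : S → ℂ) := fun ψ hψ => by
    obtain ⟨n, hn0, -, hn, -⟩ := ClassPairs.exists_irr_degree ψ
    rcases Nat.lt_or_ge n 2 with h | h
    · exact absurd (SylowPrimeOrder.eq_trivChar_of_degree_one hna (by rw [hn]; omega)) hψ
    · omega
  have hX2 : (D.X.erase (trivChar S)).card = 2 := by
    rw [Finset.card_erase_of_mem D.triv_mem, D.cardX, he]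
  obtain ⟨x, y, hxy, hset⟩ := Finset.card_eq_two.1 hX2
  obtain ⟨θ, hθ⟩ : ∃ θ, θ ∈ D.Y := Finset.card_pos.1 (by rw [D.cardY]; exact Sc.kIdx_pos)
  have hsum := LargePrime.sum_charDegree_sq (G := S)
  rw [huniv, Finset.sum_union D.disj, ← Finset.add_sum_erase _ _ D.triv_mem, hset,
    Finset.sum_pair hxy, LargePrime.charDegree_trivChar,
    Finset.sum_congr rfl (fun θ' hθ' => by
      rw [show Cfsg.charDegree (θ' : S → ℂ) = Cfsg.charDegree (θ : S → ℂ) from
        Nat.cast_injective (R := ℂ) (by rw [charDegree_cast, charDegree_cast, D.apply_Y Sc hθ hθ'])]),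
    Finset.sum_const, D.cardY, LargePrime.kIdx, he, hN, smul_eq_mul, one_pow, sq, sq, sq] at hsum
  have hmodX : ∀ χ ∈ D.X, Cfsg.charDegree (χ : S → ℂ) % p = 1 ∨
      Cfsg.charDegree (χ : S → ℂ) % p = p - 1 := fun χ hχ => by
    have h := D.degX χ hχ
    rcases D.δ_sign χ hχ with e | e <;> rw [e] at h
    · left
      rw [mod_eq_of_dvd_sub (p := p) (r := 1) ⟨1 - LargePrime.qdim P χ + 0, by push_cast; rw [h]; ring⟩,
        Nat.one_mod_eq_one.2 hp.out.ne_one]
    · right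
      rw [mod_eq_of_dvd_sub (p := p) (r := p - 1)
        ⟨-(LargePrime.qdim P χ : ℤ), by rw [h, Nat.cast_sub hp.out.one_le]; push_cast; ring⟩,
        Nat.mod_eq_of_lt (by omega)]
  have hmodY : Cfsg.charDegree (θ : S → ℂ) % p = 3 ∨ Cfsg.charDegree (θ : S → ℂ) % p = p - 3 := by
    have h := D.degY θ hθ
    rw [he] at h
    rcases D.ε_sign with e | e <;> rw [e] at h
    · left
      rw [mod_eq_of_dvd_sub (p := p) (r := 3) ⟨-(LargePrime.qdim P θ : ℤ), by rw [h]; push_cast; ring⟩,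
        Nat.mod_eq_of_lt (by omega)]
    · right
      rw [mod_eq_of_dvd_sub (p := p) (r := p - 3)
        ⟨1 - (LargePrime.qdim P θ : ℤ), by rw [h, Nat.cast_sub (by omega : 3 ≤ p)]; push_cast; ring⟩,
        Nat.mod_eq_of_lt (by omega)]
  have hmem : ∀ z ∈ ({x, y} : Finset (IrrCharacter S)), z ∈ D.X ∧ z ≠ trivChar S := fun z hz => by
    rw [← hset, Finset.mem_erase] at hz
    exact hz.symm
  have hθne : θ ≠ trivChar S := fun h => Finset.disjoint_left.1 D.disj D.triv_mem (h ▸ hθ)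
  exact hcheck _ (hlt x) _ (hlt y) _ (hlt θ) (hmodX x (hmem x (by simp)).1) (hdvd x)
    (hmodX y (hmem y (by simp)).1) (hdvd y) hmodY (hdvd θ) (h2 x (hmem x (by simp)).2)
    (h2 y (hmem y (by simp)).2) (h2 θ hθne) hsum

end CfsgLib.Classification.SmallGraph
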