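import Cfsg.Agent.DegreeGraph.Basic
import Cfsg.Agent.GaloisAverage.Ito
import Cfsg.Agent.TwoDegrees73.Prime
import Cfsg.Agent.S0188

/-!
# Degree graphs: lifting from sections, abelian normal subgroups, products
-/

set_option autoImplicit false
set_option linter.style.haveILetI false

namespace CfsgLib.Classification.SmallGraph

open CfsgLib.Characters CfsgLib.DegreeGraph

universe u v

variable {G : Type u} [Group G] [Finite G]

theorem charDegrees_congr {H : Type v} [Group H] [Finite H] (e : G ≃* H) :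
    Cfsg.charDegrees G = Cfsg.charDegrees H := by
  ext d
  constructor
  · rintro ⟨χ, rfl⟩
    exact ⟨⟨_, isIrr_comp e.symm.toMonoidHom e.symm.surjective χ.2⟩, by simp [Cfsg.charDegree]⟩
  · rintro ⟨χ, rfl⟩
    exact ⟨⟨_, isIrr_comp e.toMonoidHom e.surjective χ.2⟩, by simp [Cfsg.charDegree]⟩

theorem degreePrimes_congr {H : Type v} [Group H] [Finite H] (e : G ≃* H) :
    Cfsg.degreePrimes G = Cfsg.degreePrimes H := by
  rw [Cfsg.degreePrimes, Cfsg.degreePrimes, charDegrees_congr e]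

theorem degreeGraph_congr {H : Type v} [Group H] [Finite H] (e : G ≃* H) :
    Cfsg.degreeGraph G = Cfsg.degreeGraph H := by
  ext r s
  simp [Cfsg.degreeGraph, charDegrees_congr e]

/-- A degree of a normal subgroup divides a degree of the group. -/
theorem exists_dvd_of_normal (N : Subgroup G) [N.Normal] {d : ℕ} (hd : d ∈ Cfsg.charDegrees N) :
    ∃ c ∈ Cfsg.charDegrees G, d ∣ c := by
  classical
  haveI := Fintype.ofFinite G
  haveI := Fintype.ofFinite N
  obtain ⟨θ, hθ, hθ1, -⟩ := exists_of_mem hd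
  obtain ⟨χ, hχ⟩ : ∃ χ : Cfsg.IrrCharacter G,
      Cfsg.classInner (fun n : N => (χ : G → ℂ) n) θ ≠ 0 := by
    by_contra hno
    push Not at hno
    have h0 : Cfsg.indFun N θ = 0 := by
      refine classFunction_eq_zero (isClassFunction_indFun _ _) fun χ => ?_
      rw [classInner_indFun _ _ (isClassFunction_of_isIrr χ.2), classInner_conj_symm, hno χ, map_zero]
    have h1 := indFun_one N θ
    rw [h0, Pi.zero_apply, eq_comm, mul_eq_zero] at h1
    exact h1.elim (Nat.cast_ne_zero.2 Subgroup.index_ne_zero_of_finite) (irr_one_ne_zero hθ)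
  obtain ⟨n, -, hn⟩ := exists_degree_pos χ.2
  obtain ⟨d', k, hd', rfl, -, -⟩ := exists_ratio N χ.2 hθ hχ hn
  have h : d' = d := Nat.cast_injective (R := ℂ) (hd'.symm.trans hθ1)
  exact ⟨d' * k, mem_charDegrees χ.2 hn, h ▸ dvd_mul_right _ _⟩

/-- A degree of a quotient is a degree. -/
theorem mem_of_quotient (N : Subgroup G) [N.Normal] {d : ℕ} (hd : d ∈ Cfsg.charDegrees (G ⧸ N)) :
    d ∈ Cfsg.charDegrees G := by
  haveI := Fintype.ofFinite G
  haveI := Fintype.ofFinite N
  exact charDegrees_quotient_subset N hd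

/-- Itô: a prime not dividing the index of an abelian normal subgroup divides no degree. -/
theorem not_mem_degreePrimes_of_normal_abelian (A : Subgroup G) [A.Normal]
    (hA : ∀ a ∈ A, ∀ b ∈ A, a * b = b * a) {l : ℕ} (hl : ¬ l ∣ A.index) :
    l ∉ Cfsg.degreePrimes G := by
  rintro ⟨-, d, hd, hld⟩
  haveI := Fintype.ofFinite G
  obtain ⟨χ, hχ, hχ1, -⟩ := exists_of_mem hd
  obtain ⟨n, hn, hdv⟩ := CfsgLib.GaloisAverage.exists_degree_dvd_index hχ A hA
  have h : d = n := Nat.cast_injective (R := ℂ) (hχ1.symm.trans hn)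
  exact hl (hld.trans (h ▸ hdv))

/-- A degree divides the order and its square is at most the index of the centre. -/
theorem degree_facts {d : ℕ} (hd : d ∈ Cfsg.charDegrees G) :
    d ∣ Nat.card G ∧ d ^ 2 ≤ (Subgroup.center G).index ∧ 0 < d := by
  haveI := Fintype.ofFinite G
  obtain ⟨χ, hχ, hχ1, hd0⟩ := exists_of_mem hd
  refine ⟨?_, CfsgLib.TwoDegrees73.sq_degree_le_index_center hχ hχ1, hd0⟩
  obtain ⟨n, ρ, hρ, rfl⟩ := hχ
  haveI := hρ
  rw [Representation.char_one, Module.finrank_fin_fun] at hχ1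
  have h : n = d := by exact_mod_cast hχ1
  have := finrank_dvd_card ρ
  rwa [Module.finrank_fin_fun, h] at this

/-- Products of degrees of two factors. -/
theorem mul_mem_prod {H : Type v} [Group H] [Finite H] {a b : ℕ} (ha : a ∈ Cfsg.charDegrees G)
    (hb : b ∈ Cfsg.charDegrees H) : a * b ∈ Cfsg.charDegrees (G × H) := by
  haveI := Fintype.ofFinite G
  haveI := Fintype.ofFinite H
  obtain ⟨φ, hφ, hφ1, -⟩ := exists_of_mem ha
  obtain ⟨ψ, hψ, hψ1, -⟩ := exists_of_mem hb
  refine mem_charDegrees ((Cfsg.Agent.S0188.result _).2 ⟨φ, ψ, hφ, hψ, rfl⟩) ?_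
  simp [hφ1, hψ1]

/-- Degrees of a product are products. -/
theorem exists_factors_prod {H : Type v} [Group H] [Finite H] {d : ℕ}
    (hd : d ∈ Cfsg.charDegrees (G × H)) :
    ∃ a ∈ Cfsg.charDegrees G, ∃ b ∈ Cfsg.charDegrees H, d = a * b := by
  haveI := Fintype.ofFinite G
  haveI := Fintype.ofFinite H
  obtain ⟨θ, hθ, hθ1, -⟩ := exists_of_mem hd
  obtain ⟨φ, ψ, hφ, hψ, rfl⟩ := (Cfsg.Agent.S0188.result θ).1 hθ
  obtain ⟨a, -, ha⟩ := exists_degree_pos hφ
  obtain ⟨b, -, hb⟩ := exists_degree_pos hψ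
  refine ⟨a, mem_charDegrees hφ ha, b, mem_charDegrees hψ hb, Nat.cast_injective (R := ℂ) ?_⟩
  rw [← hθ1]
  simp [ha, hb]

end CfsgLib.Classification.SmallGraph
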