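import Cfsg.Agent.Classification.SmallGraph.Sylow
import Cfsg.Agent.Classification.SmallOrders.Tools

/-!
# The kernel of the action on `p + 1` Sylow subgroups of order `p`
-/

set_option autoImplicit false
set_option linter.style.haveILetI false

namespace CfsgLib.Classification.SmallGraph

open Subgroup MulAction
open scoped Pointwise

universe u

variable {G : Type u} [Group G] [Finite G] {p : ℕ} [hp : Fact p.Prime]

/-- With `p + 1` Sylow subgroups of order `p` the centraliser of one has order dividing `p` times the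
order of the kernel of the action on them. -/
theorem exists_kernel (hn : Nat.card (Sylow p G) = p + 1)
    (hP : ∀ P : Sylow p G, Nat.card (P : Subgroup G) = p) :
    ∃ K : Subgroup G, K.Normal ∧ ¬ p ∣ Nat.card K ∧
      (∀ P : Sylow p G, K ≤ normalizer ((P : Subgroup G) : Set G)) ∧
      (∀ P : Sylow p G, (P : Subgroup G) ≤ centralizer (K : Set G)) ∧
      ∀ P : Sylow p G, Nat.card (centralizer ((P : Subgroup G) : Set G)) ∣ p * Nat.card K := by
  classical
  set K := (MulAction.toPermHom G (Sylow p G)).ker with hKdef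
  have hK : ∀ g : G, g ∈ K ↔ ∀ Q : Sylow p G, g • Q = Q := fun g => by
    rw [hKdef, MonoidHom.mem_ker]
    exact ⟨fun h Q => congrArg (fun σ : Equiv.Perm (Sylow p G) => σ Q) h, fun h => Equiv.ext h⟩
  have hKN : ∀ P : Sylow p G, K ≤ normalizer ((P : Subgroup G) : Set G) := fun P g hg =>
    Sylow.smul_eq_iff_mem_normalizer.1 ((hK g).1 hg P)
  -- a member of a Sylow subgroup normalising another one is trivial
  have hfix : ∀ P Q : Sylow p G, P ≠ Q → ∀ x ∈ (P : Subgroup G), x • Q = Q → x = 1 := by
    intro P Q hPQ x hx hxQ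
    by_contra hx1
    have hle : zpowers x ≤ normalizer ((Q : Subgroup G) : Set G) :=
      zpowers_le.2 (Sylow.smul_eq_iff_mem_normalizer.1 hxQ)
    have hz : (P : Subgroup G) = zpowers x :=
      (CfsgLib.Small.eq_zpowers_of_mem_prime (hP P) hx hx1).symm
    have hPQ' := (IsPGroup.inf_normalizer_sylow (hz ▸ P.2) Q).symm
    rw [← Sylow.coe_coe] at hPQ'
    rw [inf_eq_left.2 hle, inf_eq_left, ← hz] at hPQ'
    exact hPQ (Sylow.ext (Subgroup.eq_of_le_of_card_ge hPQ' (by rw [hP, hP])))
  have hne2 : ∀ P : Sylow p G, ∃ Q : Sylow p G, Q ≠ P := fun P => by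
    by_contra hno
    push Not at hno
    have := (Nat.card_eq_one_iff_unique (α := Sylow p G)).2
      ⟨⟨fun a b => (hno a).trans (hno b).symm⟩, ⟨P⟩⟩
    have := hp.out.pos
    omega
  have hpK : ¬ p ∣ Nat.card K := by
    intro h
    obtain ⟨x, hx⟩ := exists_prime_orderOf_dvd_card' (G := K) p h
    have hx' : orderOf (x : G) = p := by rw [Subgroup.orderOf_coe, hx]
    obtain ⟨P, hPx⟩ := (IsPGroup.of_card (p := p) (n := 1)
      (G := zpowers (x : G)) (by rw [Nat.card_zpowers, hx', pow_one])).exists_le_sylow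
    obtain ⟨Q, hQ⟩ := hne2 P
    have := hfix P Q hQ.symm (x : G) (hPx (mem_zpowers _)) ((hK _).1 x.2 Q)
    rw [this, orderOf_one] at hx'
    exact hp.out.one_lt.ne hx'
  haveI : K.Normal := inferInstance
  refine ⟨K, inferInstance, hpK, hKN, fun P => le_centralizer_of_normal K hpK P (hKN P), fun P => ?_⟩
  obtain ⟨Q, hQ⟩ := hne2 P
  -- the Sylow subgroup is transitive on the others
  let orb : ↥(P : Subgroup G) → {R : Sylow p G // R ≠ P} := fun x =>
    ⟨(x : G) • Q, fun h => hQ (smul_left_cancel (x : G) (h.trans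
      (Sylow.smul_eq_iff_mem_normalizer.2 (le_normalizer x.2)).symm))⟩
  have hinj : Function.Injective orb := by
    intro x y hxy
    have h := congrArg Subtype.val hxy
    change (x : G) • Q = (y : G) • Q at h
    have h1 : ((y : G)⁻¹ * x) • Q = Q := by rw [mul_smul, h, inv_smul_smul]
    exact Subtype.ext (inv_mul_eq_one.1 (hfix P Q hQ.symm _ (mul_mem (inv_mem y.2) x.2) h1)).symm
  have hsurj : Function.Surjective orb := by
    haveI := Fintype.ofFinite (Sylow p G)
    haveI := Fintype.ofFinite (P : Subgroup G)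
    refine ((Fintype.bijective_iff_injective_and_card orb).2 ⟨hinj, ?_⟩).2
    rw [← Nat.card_eq_fintype_card, hP, Fintype.card_subtype_compl, Fintype.card_subtype_eq,
      ← Nat.card_eq_fintype_card, hn, Nat.add_sub_cancel]
  set C := centralizer ((P : Subgroup G) : Set G) with hC
  set S := C ⊓ stabilizer G Q with hS
  have hSK : S ≤ K := by
    intro s hs
    rw [hK]
    intro R
    by_cases hR : R = P
    · exact hR ▸ Sylow.smul_eq_iff_mem_normalizer.2 (centralizer_le_normalizer _ hs.1)
    obtain ⟨x, hx⟩ := hsurj ⟨R, hR⟩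
    have hx' : (x : G) • Q = R := congrArg Subtype.val hx
    rw [← hx', smul_smul, ← mem_centralizer_iff.1 hs.1 x x.2, mul_smul, mem_stabilizer_iff.1 hs.2]
  haveI : IsCyclic (P : Subgroup G) := isCyclic_of_prime_card (hP P)
  have hPC : (P : Subgroup G) ≤ C := le_centralizer _
  let f : ↥(P : Subgroup G) × ↥S → ↥C := fun z => ⟨(z.1 : G) * z.2, mul_mem (hPC z.1.2) z.2.2.1⟩
  have hf : Function.Bijective f := by
    refine ⟨?_, ?_⟩
    · rintro ⟨x, s⟩ ⟨y, t⟩ h
      have h' : (x : G) * s = (y : G) * t := congrArg Subtype.val h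
      have h1 : (x : G) • Q = (y : G) • Q := by
        have := congrArg (fun g : G => g • Q) h'
        simpa only [mul_smul, mem_stabilizer_iff.1 s.2.2, mem_stabilizer_iff.1 t.2.2] using this
      have hxy : x = y := hinj (Subtype.ext h1)
      subst hxy
      exact Prod.ext rfl (Subtype.ext (mul_left_cancel h'))
    · rintro ⟨c, hc⟩
      have hcQ : c • Q ≠ P := fun h => hQ (smul_left_cancel c (h.trans
        (Sylow.smul_eq_iff_mem_normalizer.2 (centralizer_le_normalizer _ hc)).symm))
      obtain ⟨x, hx⟩ := hsurj ⟨_, hcQ⟩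
      have hx' : (x : G) • Q = c • Q := congrArg Subtype.val hx
      refine ⟨⟨x, ⟨(x : G)⁻¹ * c, Subgroup.mem_inf.2 ⟨mul_mem (inv_mem (hPC x.2)) hc, ?_⟩⟩⟩,
        Subtype.ext ?_⟩
      · rw [mem_stabilizer_iff, mul_smul, ← hx', inv_smul_smul]
      · exact mul_inv_cancel_left _ _
  rw [← Nat.card_congr (Equiv.ofBijective f hf), Nat.card_prod, hP]
  exact Nat.mul_dvd_mul_left p (card_dvd_of_le hSK)

end CfsgLib.Classification.SmallGraph
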