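import Cfsg.Agent.Classification.SmallGraph.Kernel
import Cfsg.Agent.Classification.OrderMid.Main

/-!
# Solvability and Hall numbers for non-simple groups of order below 6000
-/

set_option autoImplicit false
set_option linter.style.haveILetI false

namespace CfsgLib.Classification.SmallGraph

open Subgroup

universe u

/-- The orders of simple groups below 6000. -/
def simpleOrders : List ℕ := [60, 168, 360, 504, 660, 1092, 2448, 2520, 3420, 4080, 5616]

theorem simple_dvd {X : Type u} [Group X] [Finite X] [IsSimpleGroup X] {N : ℕ} (h0 : 0 < N)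
    (hN : N < 6000) (hd : Nat.card X ∣ N) (hne : Nat.card X ≠ N) (hc : ¬ IsMulCommutative X) :
    Nat.card X ∈ simpleOrders.filter fun l => decide (N % l = 0 ∧ l ≠ N) := by
  have hle := Nat.le_of_dvd h0 hd
  rw [List.mem_filter, decide_eq_true_eq]
  exact ⟨OrderMid.orders_lt_six_thousand hc (by omega), Nat.mod_eq_zero_of_dvd hd ▸ rfl, hne⟩

/-- With no smaller simple group around, a non-simple group is solvable. -/
theorem isSolvable_of_not_simple {N : ℕ} (h0 : 0 < N) (hN : N < 6000)
    (hlist : simpleOrders.filter (fun l => decide (N % l = 0 ∧ l ≠ N)) = [])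
    {G : Type u} [Group G] [Finite G] (hG : Nat.card G ∣ N) (hns : Nat.card G = N → ¬ IsSimpleGroup G) :
    Group.IsSolvable G := by
  refine induction_sections (motive := fun X _ => Group.IsSolvable X) N ?_ ?_ ?_ G hG hns
  · intro X _ _ h
    exact Group.isSolvable_of_comm fun a b => h.is_comm.comm a b
  · intro X _ _ hd hne hs hc
    have := simple_dvd h0 hN hd hne hc
    rw [hlist] at this
    exact absurd this List.not_mem_nil
  · intro X _ _ M _ _ hM hQ
    exact CfsgLib.SolvCrit.isSolvable_of_normal_of_quotient M hM hQ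

/-- Hall's theorem with the simple sections of order prime to `p`. -/
theorem good_of_not_simple {N p : ℕ} [Fact p.Prime] (h0 : 0 < N) (hN : N < 6000)
    (hlist : ∀ l ∈ simpleOrders.filter (fun l => decide (N % l = 0 ∧ l ≠ N)), ¬ p ∣ l)
    {G : Type u} [Group G] [Finite G] (hG : Nat.card G ∣ N) (hns : Nat.card G = N → ¬ IsSimpleGroup G) :
    Good p (Nat.card (Sylow p G)) := by
  refine induction_sections (motive := fun X _ => Good p (Nat.card (Sylow p X))) N ?_ ?_ ?_ G hG hns
  · intro X _ _ h
    rw [card_sylow_of_comm h]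
    exact good_one p
  · intro X _ _ hd hne hs hc
    rw [card_sylow_of_not_dvd (hlist _ (simple_dvd h0 hN hd hne hc))]
    exact good_one p
  · intro X _ _ M _ _ hM hQ
    exact good_of_normal M hM hQ

/-- Hall's theorem for solvable groups. -/
theorem good_of_isSolvable {p : ℕ} [Fact p.Prime] {G : Type u} [Group G] [Finite G]
    (h : Group.IsSolvable G) : Good p (Nat.card (Sylow p G)) := by
  refine induction_sections (motive := fun X _ => Group.IsSolvable X → Good p (Nat.card (Sylow p X)))
    (2 * Nat.card G) ?_ ?_ ?_ G (dvd_mul_left _ _) ?_ h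
  · intro X _ _ hc _
    rw [card_sylow_of_comm hc]
    exact good_one p
  · intro X _ _ _ _ hs hc hX
    exact absurd ⟨⟨fun a b => IsSimpleGroup.comm_iff_isSolvable.2 hX a b⟩⟩ hc
  · intro X _ _ M _ _ hM hQ hX
    haveI := hX
    exact good_of_normal M (hM inferInstance) (hQ inferInstance)
  · intro he
    have := Nat.card_pos (α := G)
    omega

theorem Good.false_of_factor {p n : ℕ} (h : Good p n) {l a m : ℕ} (hl : l.Prime) (hn : n = l ^ a * m)
    (hm : ¬ l ∣ m) (hmod : l ^ a % p ≠ 1 % p) : False := by
  refine hmod ?_
  have := h l hl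
  rw [hn, Nat.factorization_mul (pow_ne_zero a hl.pos.ne') (fun e => hm (by rw [e]; exact dvd_zero l)),
    Finsupp.add_apply, Nat.factorization_pow_self hl, Nat.factorization_eq_zero_of_not_dvd hm] at this
  simpa [Nat.ModEq] using this

end CfsgLib.Classification.SmallGraph
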