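import Cfsg.Agent.Classification.SmallGraph.Solvable
import Cfsg.Agent.Classification.SmallGraph.Simple

/-!
# Non-simple groups of order 2520 and non-solvable groups of order 504
-/

set_option autoImplicit false
set_option linter.style.haveILetI false

namespace CfsgLib.Classification.SmallGraph

open Subgroup

universe u

variable {G : Type u} [Group G] [Finite G]

/-- Either Hall numbers at a prime or a large simple section. -/
theorem good_pair [Fact (Nat.Prime 5)] [Fact (Nat.Prime 7)] (hcard : Nat.card G = 2520)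
    (hns : ¬ IsSimpleGroup G) :
    Good 5 (Nat.card (Sylow 5 G)) ∨ Good 7 (Nat.card (Sylow 7 G)) := by
  have h := induction_sections (motive := fun X _ =>
      (Good 5 (Nat.card (Sylow 5 X)) ∧ Good 7 (Nat.card (Sylow 7 X))) ∨
      (Good 5 (Nat.card (Sylow 5 X)) ∧ 168 ∣ Nat.card X) ∨
      (Good 7 (Nat.card (Sylow 7 X)) ∧ 60 ∣ Nat.card X)) 2520
    (fun X _ _ hc => Or.inl ⟨(card_sylow_of_comm (p := 5) hc).symm ▸ good_one 5,
      (card_sylow_of_comm (p := 7) hc).symm ▸ good_one 7⟩)
    (fun X _ _ hd hne hs hc => by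
      have h := simple_dvd (by norm_num) (by norm_num) hd hne hc
      rw [show simpleOrders.filter (fun l => decide (2520 % l = 0 ∧ l ≠ 2520)) = [60, 168, 360, 504]
        by decide +kernel] at h
      simp only [List.mem_cons, List.not_mem_nil, or_false] at h
      rcases h with e | e | e | e
      · exact Or.inr (Or.inr ⟨(card_sylow_of_not_dvd (p := 7) (G := X) (by rw [e]; norm_num)).symm ▸
          good_one 7, by rw [e]⟩)
      · exact Or.inr (Or.inl ⟨(card_sylow_of_not_dvd (p := 5) (G := X) (by rw [e]; norm_num)).symm ▸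
          good_one 5, by rw [e]⟩)
      · exact Or.inr (Or.inr ⟨(card_sylow_of_not_dvd (p := 7) (G := X) (by rw [e]; norm_num)).symm ▸
          good_one 7, by rw [e]; norm_num⟩)
      · exact Or.inr (Or.inl ⟨(card_sylow_of_not_dvd (p := 5) (G := X) (by rw [e]; norm_num)).symm ▸
          good_one 5, by rw [e]; norm_num⟩))
    (fun X _ _ M _ hd hM hQ => by
      have hmul : Nat.card M * Nat.card (X ⧸ M) = Nat.card X := by
        rw [← Subgroup.index_eq_card, M.card_mul_index]
      have hboth : ∀ {a b : ℕ}, a ∣ Nat.card M → b ∣ Nat.card (X ⧸ M) → a * b ∣ 2520 :=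
        fun ha hb => (Nat.mul_dvd_mul ha hb).trans (hmul.symm ▸ hd)
      have h5 := fun a b => good_of_normal (p := 5) M a b
      have h7 := fun a b => good_of_normal (p := 7) M a b
      have hl : ∀ {a : ℕ}, a ∣ Nat.card M → a ∣ Nat.card X := fun ha =>
        hmul ▸ dvd_mul_of_dvd_left ha _
      have hr : ∀ {a : ℕ}, a ∣ Nat.card (X ⧸ M) → a ∣ Nat.card X := fun ha =>
        hmul ▸ dvd_mul_of_dvd_right ha _
      rcases hM with ⟨a, b⟩ | ⟨a, a'⟩ | ⟨b, b'⟩ <;> rcases hQ with ⟨c, d⟩ | ⟨c, c'⟩ | ⟨d, d'⟩
      · exact Or.inl ⟨h5 a c, h7 b d⟩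
      · exact Or.inr (Or.inl ⟨h5 a c, hr c'⟩)
      · exact Or.inr (Or.inr ⟨h7 b d, hr d'⟩)
      · exact Or.inr (Or.inl ⟨h5 a c, hl a'⟩)
      · exact Or.inr (Or.inl ⟨h5 a c, hl a'⟩)
      · exact absurd (hboth a' d') (by norm_num)
      · exact Or.inr (Or.inr ⟨h7 b d, hl b'⟩)
      · exact absurd (hboth b' c') (by norm_num)
      · exact Or.inr (Or.inr ⟨h7 b d, hl b'⟩))
    G (dvd_of_eq hcard) (fun _ => hns)
  rcases h with ⟨a, -⟩ | ⟨a, -⟩ | ⟨b, -⟩
  exacts [Or.inl a, Or.inl a, Or.inr b]

theorem sylow_options_five_2520 : ∀ n < 505, 504 % n = 0 → n % 5 = 1 →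
    n ∈ [1, 6, 21, 36, 56, 126] := by
  decide +kernel

theorem sylow_options_seven_2520 : ∀ n < 361, 360 % n = 0 → n % 7 = 1 →
    n ∈ [1, 8, 15, 36, 120] := by
  decide +kernel

/-- The theorem for order 2520. -/
theorem false_2520 (hcard : Nat.card G = 2520) (hns : ¬ IsSimpleGroup G)
    (h5 : 5 ∈ Cfsg.degreePrimes G) (h7 : 7 ∈ Cfsg.degreePrimes G) : False := by
  haveI : Fact (Nat.Prime 5) := ⟨by norm_num⟩
  haveI : Fact (Nat.Prime 7) := ⟨by norm_num⟩
  have hc5 : Nat.card G = 5 * 504 := hcard
  have hc7 : Nat.card G = 7 * 360 := hcard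
  rcases good_pair hcard hns with hg | hg
  · have h := (sylow_cases (p := 5) hc5 (by norm_num)).2 _ sylow_options_five_2520
    simp only [List.mem_cons, List.not_mem_nil, or_false] at h
    rcases h with h | h | h | h | h | h
    · exact not_mem_of_card_sylow_one hc5 (by norm_num) h h5
    · exact hg.false_of_factor (l := 2) (a := 1) (m := 3) Nat.prime_two h (by norm_num) (by norm_num)
    · exact hg.false_of_factor (l := 3) (a := 1) (m := 7) Nat.prime_three h (by norm_num) (by norm_num)
    · exact hg.false_of_factor (l := 2) (a := 2) (m := 9) Nat.prime_two h (by norm_num) (by norm_num)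
    · exact hg.false_of_factor (l := 2) (a := 3) (m := 7) Nat.prime_two h (by norm_num) (by norm_num)
    · exact hg.false_of_factor (l := 2) (a := 1) (m := 63) Nat.prime_two h (by norm_num) (by norm_num)
  · have h := (sylow_cases (p := 7) hc7 (by norm_num)).2 _ sylow_options_seven_2520
    simp only [List.mem_cons, List.not_mem_nil, or_false] at h
    rcases h with h | h | h | h | h
    · exact not_mem_of_card_sylow_one hc7 (by norm_num) h h7
    · -- eight Sylow subgroups: the kernel of the action contains the Sylow 5-subgroup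
      obtain ⟨K, hKn, hK7, hKN, -, hKC⟩ := exists_kernel h (sylow_cases (p := 7) hc7 (by norm_num)).1
      haveI := hKn
      obtain ⟨P⟩ : Nonempty (Sylow 7 G) := inferInstance
      have hP := (sylow_cases (p := 7) hc7 (by norm_num)).1 P
      have hNc : Nat.card (normalizer ((P : Subgroup G) : Set G)) = 315 := by
        have := CfsgLib.Small.card_sylow_mul_card_normalizer P
        rw [h, hcard] at this
        omega
      have hCr := hNc ▸ CfsgLib.Small.card_centralizer_mul_relIndex (P : Subgroup G)
      have hr6 := CfsgLib.Small.relIndex_centralizer_dvd_pred hP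
      have h5C : 5 ∣ Nat.card (centralizer ((P : Subgroup G) : Set G)) := by
        refine (Nat.Coprime.dvd_of_dvd_mul_right ?_ (hCr ▸ by norm_num :
          5 ∣ Nat.card (centralizer ((P : Subgroup G) : Set G)) *
            (centralizer ((P : Subgroup G) : Set G)).relIndex (normalizer ((P : Subgroup G) : Set G))))
        exact Nat.Coprime.coprime_dvd_right hr6 (by norm_num)
      have hK5 : 5 ∣ Nat.card K :=
        Nat.Coprime.dvd_of_dvd_mul_left (by norm_num : Nat.Coprime 5 7) (h5C.trans (hKC P))
      have hK45 : Nat.card K ∣ 45 := by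
        have hd := card_dvd_of_le (hKN P)
        rw [hNc, show 315 = 7 * 45 from rfl] at hd
        exact (((Nat.Prime.coprime_iff_not_dvd (by norm_num)).2 hK7).symm).dvd_of_dvd_mul_left hd
      obtain ⟨k, hk⟩ := hK5
      have hk9 : k ∣ 9 := (Nat.mul_dvd_mul_iff_left (show 0 < 5 by norm_num)).1 (hk ▸ hK45)
      have hk5 : ¬ 5 ∣ k := fun h => absurd (h.trans hk9) (by norm_num)
      have hQc := (sylow_cases (p := 5) hk hk5).1
      have h1 := (sylow_cases (p := 5) hk hk5).2 [1] fun n hn hkn hmod => by
        have h9 := (Nat.dvd_of_mod_eq_zero hkn).trans hk9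
        have := Nat.le_of_dvd (by norm_num) h9
        have := Nat.mod_eq_zero_of_dvd h9
        rw [List.mem_singleton]
        interval_cases n <;> omega
      rw [List.mem_singleton] at h1
      obtain ⟨Q⟩ : Nonempty (Sylow 5 K) := inferInstance
      haveI : Subsingleton (Sylow 5 K) := (Nat.card_eq_one_iff_unique.mp h1).1
      haveI hQn : (Q : Subgroup K).Normal := Sylow.normal_of_subsingleton Q
      haveI : (Q : Subgroup K).Characteristic := Sylow.characteristic_of_normal Q hQn
      haveI : ((Q : Subgroup K).map K.subtype).Normal := ConjAct.normal_of_characteristic_of_normal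
      have hA : Nat.card ((Q : Subgroup K).map K.subtype) = 5 := by
        rw [Subgroup.card_map_of_injective K.subtype_injective, hQc]
      haveI : IsCyclic ((Q : Subgroup K).map K.subtype) := isCyclic_of_prime_card hA
      refine not_mem_degreePrimes_of_normal_abelian ((Q : Subgroup K).map K.subtype) (fun a ha b hb => ?_) ?_ h5
      · letI := IsCyclic.commGroup (α := ((Q : Subgroup K).map K.subtype))
        exact congrArg Subtype.val (mul_comm (⟨a, ha⟩ : ((Q : Subgroup K).map K.subtype)) ⟨b, hb⟩)
      · have := ((Q : Subgroup K).map K.subtype).card_mul_index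
        rw [hA, hcard] at this
        omega
    · exact hg.false_of_factor (l := 3) (a := 1) (m := 5) Nat.prime_three h (by norm_num) (by norm_num)
    · exact hg.false_of_factor (l := 2) (a := 2) (m := 9) Nat.prime_two h (by norm_num) (by norm_num)
    · exact hg.false_of_factor (l := 3) (a := 1) (m := 40) Nat.prime_three h (by norm_num) (by norm_num)

/-- A non-simple group of order 504 is solvable or has a degree divisible by six. -/
theorem isSolvable_or_six (hcard : Nat.card G = 504) (hns : ¬ IsSimpleGroup G) :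
    Group.IsSolvable G ∨ ∃ d ∈ Cfsg.charDegrees G, 6 ∣ d := by
  refine induction_sections (motive := fun X _ => Group.IsSolvable X ∨
    ∃ d ∈ Cfsg.charDegrees X, 6 ∣ d) 504 ?_ ?_ ?_ G (dvd_of_eq hcard) (fun _ => hns)
  · exact fun X _ _ hc => Or.inl (Group.isSolvable_of_comm fun a b => hc.is_comm.comm a b)
  · intro X _ _ hd hne hs hc
    haveI := hs
    have h := simple_dvd (by norm_num) (by norm_num) hd hne hc
    rw [show simpleOrders.filter (fun l => decide (504 % l = 0 ∧ l ≠ 504)) = [168] by decide +kernel,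
      List.mem_singleton] at h
    obtain ⟨-, -, -, d, hd, h6⟩ := (primes_168 h).2.2
    exact Or.inr ⟨d, hd, h6⟩
  · intro X _ _ M _ _ hM hQ
    rcases hM with hM | ⟨d, hd, h6⟩
    · rcases hQ with hQ | ⟨d, hd, h6⟩
      · exact Or.inl (CfsgLib.SolvCrit.isSolvable_of_normal_of_quotient M hM hQ)
      · exact Or.inr ⟨d, mem_of_quotient M hd, h6⟩
    · obtain ⟨c, hc, hdc⟩ := exists_dvd_of_normal M hd
      exact Or.inr ⟨c, hc, h6.trans hdc⟩

/-- The theorem for order 504. -/
theorem false_504 (hcard : Nat.card G = 504) (hns : ¬ IsSimpleGroup G)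
    (h7 : 7 ∈ Cfsg.degreePrimes G) (h2 : 2 ∈ Cfsg.degreePrimes G)
    (h23 : ¬ (Cfsg.degreeGraph G).Adj 2 3) : False := by
  rcases isSolvable_or_six hcard hns with h | ⟨d, hd, h6⟩
  · haveI := h
    exact false_504_solvable hcard h7 h2
  · exact h23 ⟨by norm_num, Nat.prime_two, Nat.prime_three, d, hd, h6⟩

end CfsgLib.Classification.SmallGraph
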