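import Cfsg.Agent.Classification.SmallGraph.Solvable
import Cfsg.Agent.BlocksFrobenius.Coeff
import Cfsg.Agent.PRational.Basic
import Cfsg.Agent.CharactersDeep.PrimePowerDegrees
import Cfsg.Agent.ClassPairs.Basic

/-!
# Non-simple groups of order 360 do not have the degree graph of `A₆`
-/

set_option autoImplicit false
set_option linter.style.haveILetI false

namespace CfsgLib.Classification.SmallGraph

open Subgroup CfsgLib.Characters CfsgLib.DegreeGraph
open scoped ComplexConjugate

universe u

variable {G : Type u} [Group G] [Finite G]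

/-- A degree three character is trivial on an element of order five conjugate to its square. -/
theorem eq_one_of_conj_sq [Fintype G] [Fact (Nat.Prime 5)] (P : Sylow 5 G)
    (hP : Nat.card (P : Subgroup G) = 5) {x g : G} (hxP : x ∈ (P : Subgroup G)) (hx1 : x ≠ 1)
    (hg : g * x * g⁻¹ = x ^ 2) (χ : Cfsg.IrrCharacter G) (hd : (χ : G → ℂ) 1 = 3) :
    (χ : G → ℂ) x = (χ : G → ℂ) 1 := by
  classical
  letI := Fintype.ofFinite ↥(P : Subgroup G)
  have hz : (P : Subgroup G) = zpowers x :=
    (CfsgLib.Small.eq_zpowers_of_mem_prime hP hxP hx1).symm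
  have hord : orderOf x = 5 := CfsgLib.Small.orderOf_eq_of_mem_prime hP hxP hx1
  have hcl : ∀ n : ℕ, (χ : G → ℂ) (x ^ (2 * n)) = (χ : G → ℂ) (x ^ n) := fun n => by
    rw [pow_mul, ← hg, conj_pow, isClassFunction_of_isIrr χ.2 (x ^ n) g]
  have h5 : x ^ 5 = 1 := hord ▸ pow_orderOf_eq_one x
  have e2 : (χ : G → ℂ) (x ^ 2) = (χ : G → ℂ) x := by simpa using hcl 1
  have e4 : (χ : G → ℂ) (x ^ 4) = (χ : G → ℂ) x := by rw [show 4 = 2 * 2 from rfl, hcl 2, e2]
  have e3 : (χ : G → ℂ) (x ^ 3) = (χ : G → ℂ) x := by
    rw [← e4, ← hcl 4]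
    congr 1
    rw [show 2 * 4 = 5 + 3 from rfl, pow_add, h5, one_mul]
  have hval : ∀ y : ↥(P : Subgroup G), y ≠ 1 → (χ : G → ℂ) y = (χ : G → ℂ) x := by
    intro y hy
    have hmem : (y : G) ∈ zpowers x := hz ▸ y.2
    rw [mem_zpowers_iff_mem_range_orderOf, Finset.mem_image] at hmem
    obtain ⟨k, hk, hke⟩ := hmem
    rw [Finset.mem_range, hord] at hk
    change x ^ k = (y : G) at hke
    rw [← hke]
    interval_cases k
    · exact absurd (Subtype.ext (hke.symm.trans (pow_zero x))) hy
    · rw [pow_one]
    · exact e2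
    · exact e3
    · exact e4
  have hsum := CfsgLib.BlocksFrobenius.sum_mult_eq (P := P) χ 1
  rw [← Finset.add_sum_erase _ _ (Finset.mem_univ 1),
    Finset.sum_congr rfl (fun y hy => by
      rw [hval y (Finset.ne_of_mem_erase hy), MonoidHom.one_apply, Units.val_one, map_one, mul_one]),
    Finset.sum_const, Finset.card_erase_of_mem (Finset.mem_univ _), Finset.card_univ,
    ← Nat.card_eq_fintype_card, hP, MonoidHom.one_apply, Units.val_one, map_one, mul_one,
    OneMemClass.coe_one, hd, nsmul_eq_mul] at hsum
  set m := CfsgLib.BlocksFrobenius.mult (P := P) χ 1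
  push_cast at hsum
  obtain ⟨n, ρ, hρ, hχ⟩ := χ.2
  have hn : n = 3 := by
    rw [← hχ, Representation.char_one, Module.finrank_fin_fun] at hd
    exact_mod_cast hd
  subst hn
  obtain ⟨t, ht⟩ := CfsgLib.PRational.exists_int_of_isIntegral_of_mul (z := (χ : G → ℂ) x)
    (by rw [← hχ]; exact char_isIntegral ρ x) (a := 5 * (m : ℤ) - 3) (b := 4) (by norm_num) (by
      push_cast
      norm_num at hsum
      linear_combination hsum)
  have hnorm : ‖(χ : G → ℂ) x‖ ≤ 3 := by
    rw [← hχ]
    simpa using norm_char_le ρ x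
  rw [ht, Complex.norm_intCast] at hnorm
  have h3 : |t| ≤ 3 := by exact_mod_cast hnorm
  rw [ht] at hsum
  norm_num at hsum
  have h4 : (3 : ℤ) + 4 * t = 5 * (m : ℤ) := Int.cast_injective (α := ℂ) (by
    push_cast
    linear_combination hsum)
  rw [abs_le] at h3
  have : t = 3 := by omega
  rw [ht, hd, this]
  norm_num

/-- Groups of these orders are solvable. -/
theorem isSolvable_of_card {n : ℕ} (hn : n < 6000) (h0 : 0 < n)
    (hlist : simpleOrders.filter (fun l => decide (n % l = 0)) = [])
    {X : Type u} [Group X] [Finite X] (hX : Nat.card X = n) : Group.IsSolvable X := by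
  have h2 : simpleOrders.filter (fun l => decide (n % l = 0 ∧ l ≠ n)) = [] := by
    rw [List.filter_eq_nil_iff] at hlist ⊢
    intro l hl h
    rw [decide_eq_true_eq] at h
    exact hlist l hl (decide_eq_true h.1)
  by_cases hs : IsSimpleGroup X
  · by_cases hc : IsMulCommutative X
    · exact Group.isSolvable_of_comm fun a b => hc.is_comm.comm a b
    · haveI := hs
      have h := OrderMid.orders_lt_six_thousand hc (by omega)
      rw [hX] at h
      rw [List.filter_eq_nil_iff] at hlist
      exact absurd (decide_eq_true (Nat.mod_self n)) (hlist n h)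
  · exact isSolvable_of_not_simple h0 hn h2 (dvd_of_eq hX) fun _ => hs

end CfsgLib.Classification.SmallGraph
namespace CfsgLib.Classification.SmallGraph

open Subgroup CfsgLib.Characters CfsgLib.DegreeGraph

universe v

variable {G : Type v} [Group G] [Finite G]

theorem sylow_options_360 : ∀ n < 73, 72 % n = 0 → n % 5 = 1 → n ∈ [1, 6, 36] := by decide +kernel

/-- A non-simple group of order dividing 360 has at most six Sylow 5-subgroups. -/
theorem card_sylow_five_360 [Fact (Nat.Prime 5)] (hd : Nat.card G ∣ 360)
    (hns : Nat.card G = 360 → ¬ IsSimpleGroup G) :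
    Nat.card (Sylow 5 G) = 1 ∨ Nat.card (Sylow 5 G) = 6 := by
  have hopt : ∀ (X : Type v) [Group X] [Finite X], Nat.card X ∣ 360 →
      Nat.card (Sylow 5 X) = 1 ∨ Nat.card (Sylow 5 X) = 6 ∨ Nat.card (Sylow 5 X) = 36 := by
    intro X _ _ hX
    by_cases h5 : 5 ∣ Nat.card X
    · obtain ⟨m, hm⟩ := h5
      have hm72 : m ∣ 72 := (Nat.mul_dvd_mul_iff_left (show 0 < 5 by norm_num)).1 (hm ▸ hX)
      have hm5 : ¬ 5 ∣ m := fun h => absurd (h.trans hm72) (by norm_num)
      have h := (sylow_cases hm hm5).2 [1, 6, 36] fun n hn hmn h1 =>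
        sylow_options_360 n (by have := Nat.le_of_dvd (by norm_num) hm72; omega)
          (Nat.mod_eq_zero_of_dvd ((Nat.dvd_of_mod_eq_zero hmn).trans hm72) ▸ rfl) h1
      simpa using h
    · exact Or.inl (card_sylow_of_not_dvd h5)
  refine induction_sections (motive := fun X _ => Nat.card X ∣ 360 →
    (Nat.card (Sylow 5 X) = 1 ∨ Nat.card (Sylow 5 X) = 6)) 360 ?_ ?_ ?_ G hd hns hd
  · exact fun X _ _ h _ => Or.inl (card_sylow_of_comm h)
  · intro X _ _ hX hne hs hc _
    have h := simple_dvd (by norm_num) (by norm_num) hX hne hc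
    rw [show simpleOrders.filter (fun l => decide (360 % l = 0 ∧ l ≠ 360)) = [60] by decide +kernel,
      List.mem_singleton] at h
    have := (sylow_cases (p := 5) (m := 12) h (by norm_num)).2 [1, 6] (by decide +kernel)
    simpa using this
  · intro X _ _ M _ hX hM hQ _
    have hM' := hM (M.card_subgroup_dvd_card.trans hX)
    have hQ' := hQ (M.card_quotient_dvd_card.trans hX)
    obtain ⟨c, -, hc, hgood⟩ := CfsgLib.SylowNumber.card_sylow_eq (p := 5) M
    rcases hopt X hX with h | h | h
    · exact Or.inl h
    · exact Or.inr h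
    exfalso
    rw [h] at hc
    -- six Sylow subgroups need order divisible by five
    have hnot : ¬ (Nat.card (Sylow 5 (X ⧸ M)) = 6 ∧ Nat.card (Sylow 5 M) = 6) := by
      rintro ⟨h1, h2⟩
      have hA : 5 ∣ Nat.card (X ⧸ M) := by
        by_contra hA
        rw [card_sylow_of_not_dvd hA] at h1
        omega
      have hB : 5 ∣ Nat.card M := by
        by_contra hB
        rw [card_sylow_of_not_dvd hB] at h2
        omega
      have h25 : 25 ∣ 360 := by
        refine dvd_trans ?_ hX
        rw [← M.card_mul_index, Subgroup.index_eq_card]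
        exact Nat.mul_dvd_mul hB hA
      norm_num at h25
    rcases hQ' with a | a <;> rcases hM' with b | b <;> rw [a, b] at hc
    · exact Good.false_of_factor hgood (l := 2) (a := 2) (m := 9) Nat.prime_two (by omega)
        (by norm_num) (by norm_num)
    · exact Good.false_of_factor hgood (l := 2) (a := 1) (m := 3) Nat.prime_two (by omega)
        (by norm_num) (by norm_num)
    · exact Good.false_of_factor hgood (l := 2) (a := 1) (m := 3) Nat.prime_two (by omega)
        (by norm_num) (by norm_num)
    · exact hnot ⟨a, b⟩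

/-- A normal subgroup with all six Sylow 5-subgroups is not solvable. -/
theorem not_isSolvable_of_six [Fact (Nat.Prime 5)] (h6 : Nat.card (Sylow 5 G) = 6) :
    ¬ Group.IsSolvable G := fun h =>
  (good_of_isSolvable (p := 5) h).false_of_factor (l := 2) (a := 1) (m := 3) Nat.prime_two h6
    (by norm_num) (by norm_num)

theorem card_normal_options [Fact (Nat.Prime 5)] (hcard : Nat.card G = 360)
    (h6 : Nat.card (Sylow 5 G) = 6) (L : Subgroup G) [L.Normal]
    (hL : ∀ P : Sylow 5 G, (P : Subgroup G) ≤ L) :
    Nat.card L ∈ [60, 120, 180, 360] ∧ ¬ Group.IsSolvable L := by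
  have h6L : Nat.card (Sylow 5 L) = 6 := (card_sylow_of_le L hL).trans h6
  have hns := not_isSolvable_of_six h6L
  refine ⟨?_, hns⟩
  have hd : Nat.card L ∣ 360 := hcard ▸ L.card_subgroup_dvd_card
  have h30 : 30 ∣ Nat.card L := by
    obtain ⟨S⟩ : Nonempty (Sylow 5 L) := inferInstance
    have h1 : 6 ∣ Nat.card L := by
      rw [← h6L, S.card_eq_index_normalizer]
      exact index_dvd_card _
    have h2 : 5 ∣ Nat.card L := by
      by_contra h5
      rw [card_sylow_of_not_dvd h5] at h6L
      omega
    exact Nat.Coprime.mul_dvd_of_dvd_of_dvd (by norm_num : Nat.Coprime 6 5) h1 h2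
  obtain ⟨k, hk⟩ := h30
  have hk12 : k ≤ 12 := by
    have := Nat.le_of_dvd (by norm_num) hd
    omega
  have hk0 : 0 < k := by
    have := Nat.card_pos (α := L)
    omega
  have hd' : (360 : ℕ) % Nat.card L = 0 := Nat.mod_eq_zero_of_dvd hd
  rw [hk] at hd' ⊢
  have hno : ∀ n, n < 6000 → 0 < n →
      simpleOrders.filter (fun l => decide (n % l = 0)) = [] → Nat.card L ≠ n :=
    fun n h1 h2 h3 h => hns (isSolvable_of_card h1 h2 h3 h)
  have h30' := hno 30 (by norm_num) (by norm_num) (by decide +kernel)
  have h90' := hno 90 (by norm_num) (by norm_num) (by decide +kernel)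
  interval_cases k <;> simp at hd' ⊢ <;> omega

/-- The theorem for order 360. -/
theorem false_360 (hcard : Nat.card G = 360) (hns : ¬ IsSimpleGroup G)
    (h3 : 3 ∈ Cfsg.degreePrimes G) (h25 : (Cfsg.degreeGraph G).Adj 2 5)
    (h23 : ¬ (Cfsg.degreeGraph G).Adj 2 3) (h35 : ¬ (Cfsg.degreeGraph G).Adj 3 5) : False := by
  classical
  haveI : Fact (Nat.Prime 5) := ⟨by norm_num⟩
  haveI := Fintype.ofFinite G
  have hcard' : Nat.card G = 5 * 72 := hcard
  obtain ⟨-, -, -, d10, hd10, h10⟩ := h25
  have h5v : 5 ∈ Cfsg.degreePrimes G := ⟨by norm_num, d10, hd10, (Nat.dvd_mul_left 5 2).trans h10⟩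
  have hedge : ∀ d ∈ Cfsg.charDegrees G, ¬ 6 ∣ d := fun d hd h =>
    h23 ⟨by norm_num, Nat.prime_two, Nat.prime_three, d, hd, h⟩
  have hedge' : ∀ d ∈ Cfsg.charDegrees G, ¬ 15 ∣ d := fun d hd h =>
    h35 ⟨by norm_num, Nat.prime_three, by norm_num, d, hd, h⟩
  rcases card_sylow_five_360 (dvd_of_eq hcard) (fun _ => hns) with h1 | h6
  · exact not_mem_of_card_sylow_one hcard' (by norm_num) h1 h5v
  have hP := (sylow_cases (p := 5) hcard' (by norm_num)).1
  obtain ⟨K, hKn, hK5, hKN, hKP, hKC⟩ := exists_kernel h6 hP
  haveI := hKn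
  obtain ⟨P⟩ : Nonempty (Sylow 5 G) := inferInstance
  have hNc : Nat.card (normalizer ((P : Subgroup G) : Set G)) = 60 := by
    have := CfsgLib.Small.card_sylow_mul_card_normalizer P
    rw [h6, hcard] at this
    omega
  set C := centralizer ((P : Subgroup G) : Set G) with hC
  set r := C.relIndex (normalizer ((P : Subgroup G) : Set G)) with hr
  have hCr : Nat.card C * r = 60 := hNc ▸ CfsgLib.Small.card_centralizer_mul_relIndex (P : Subgroup G)
  have hr4 : r ∣ 4 := CfsgLib.Small.relIndex_centralizer_dvd_pred (hP P)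
  have hK60 : Nat.card K ∣ 12 := by
    have h := card_dvd_of_le (hKN P)
    rw [hNc, show 60 = 5 * 12 from rfl] at h
    exact (((Nat.Prime.coprime_iff_not_dvd (by norm_num)).2 hK5).symm).dvd_of_dvd_mul_left h
  have hK3 : 3 ∣ Nat.card K := by
    have h3C : 3 ∣ Nat.card C := by
      refine (Nat.Coprime.dvd_of_dvd_mul_right ?_ (hCr ▸ by norm_num : 3 ∣ Nat.card C * r))
      exact Nat.Coprime.coprime_dvd_right hr4 (by norm_num)
    exact (Nat.Coprime.dvd_of_dvd_mul_left (by norm_num : Nat.Coprime 3 5) (h3C.trans (hKC P)))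
  -- the quotient is not solvable
  have hKle : Nat.card K ≤ 12 := Nat.le_of_dvd (by norm_num) hK60
  haveI hKsolv : Group.IsSolvable K := isSolvable_of_card (by omega) Nat.card_pos (by
    obtain ⟨k, hk⟩ := hK3
    have : k ≤ 4 := by omega
    have := Nat.card_pos (α := K)
    rw [hk]
    interval_cases k <;> first | omega | decide +kernel) rfl
  have hns' : ¬ Group.IsSolvable G := not_isSolvable_of_six h6
  have hQsolv : ¬ Group.IsSolvable (G ⧸ K) := fun h =>
    hns' (CfsgLib.SolvCrit.isSolvable_of_normal_of_quotient K hKsolv h)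
  have hQcard : Nat.card K * Nat.card (G ⧸ K) = 360 := by
    rw [← Subgroup.index_eq_card, K.card_mul_index, hcard]
  obtain ⟨k, hk⟩ := hK3
  have hK36 : Nat.card K = 3 ∨ Nat.card K = 6 := by
    have hk4 : k ≤ 4 := by omega
    have := Nat.card_pos (α := K)
    have hno := fun n h1 h2 h3 (h : Nat.card (G ⧸ K) = n) => hQsolv (isSolvable_of_card h1 h2 h3 h)
    have h30' : Nat.card (G ⧸ K) ≠ 30 := hno 30 (by norm_num) (by norm_num) (by decide +kernel)
    have h40' : Nat.card (G ⧸ K) ≠ 40 := hno 40 (by norm_num) (by norm_num) (by decide +kernel)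
    have hd := Nat.mod_eq_zero_of_dvd hK60
    rw [hk] at hd hQcard this
    interval_cases k <;> omega
  -- a degree three or nine
  obtain ⟨-, d, hd, h3d⟩ := h3
  obtain ⟨hd360, hdZ, hd0⟩ := degree_facts hd
  have hd39 : d = 3 ∨ d = 9 := by
    have hsq : d ^ 2 ≤ 360 := hdZ.trans (Nat.le_of_dvd (by norm_num)
      (hcard ▸ Subgroup.index_dvd_card _))
    have hlt : d < 19 := by nlinarith only [hsq]
    have h2 := hedge d hd
    have h5 := hedge' d hd
    rw [hcard] at hd360
    interval_cases d <;> first | omega | (exfalso; norm_num at hd360)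
  rcases hK36 with hK | hK
  · -- kernel of order three
    have hCcard : Nat.card C = 15 ∧ r = 4 := by
      have h := hKC P
      rw [hK, show 5 * 3 = 15 from rfl] at h
      have hle := Nat.le_of_dvd (by norm_num) h
      have hr' := Nat.le_of_dvd (by norm_num) hr4
      have : Nat.card C * r ≤ 15 * r := Nat.mul_le_mul_right r hle
      have hr4' : r = 4 := by omega
      rw [hr4'] at hCr
      omega
    haveI : IsCyclic ↥(P : Subgroup G) := isCyclic_of_prime_card (hP P)
    set f := (P : Subgroup G).normalizerMonoidHom with hf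
    have hfr : f.range = ⊤ := by
      refine Subgroup.eq_top_of_card_eq _ ?_
      rw [IsCyclic.card_mulAut, hP P, Nat.totient_prime (by norm_num), ← Subgroup.index_ker,
        hf, Subgroup.normalizerMonoidHom_ker]
      exact hCcard.2
    let sq : ↥(P : Subgroup G) →* ↥(P : Subgroup G) :=
      { toFun := fun z => z ^ 2
        map_one' := one_pow _
        map_mul' := fun a b => (show Commute a b by
          letI := IsCyclic.commGroup (α := ↥(P : Subgroup G))
          exact mul_comm a b).mul_pow 2 }
    have hsq : Function.Bijective sq :=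
      (powCoprime (G := ↥(P : Subgroup G)) (n := 2) (by rw [hP P]; norm_num)).bijective
    obtain ⟨⟨g, hgN⟩, hg⟩ := MonoidHom.range_eq_top.1 hfr (MulEquiv.ofBijective sq hsq)
    obtain ⟨x', hx'⟩ := exists_prime_orderOf_dvd_card' (G := ↥(P : Subgroup G)) 5 (by rw [hP P])
    have hx : (x' : G) ≠ 1 := fun h => by
      have h1 : x' = 1 := Subtype.ext h
      rw [h1, orderOf_one] at hx'
      norm_num at hx'
    have hgx : g * (x' : G) * g⁻¹ = (x' : G) ^ 2 := congrArg Subtype.val (DFunLike.congr_fun hg x')
    have hd3 : d = 3 := hd39.resolve_right fun h9 => by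
      obtain ⟨χ, hχ, hχ1, -⟩ := exists_of_mem hd
      obtain ⟨n, hn, hdv⟩ := CfsgLib.GaloisAverage.exists_degree_dvd_index hχ K (fun a ha b hb => by
        haveI : Fact (Nat.Prime 3) := ⟨Nat.prime_three⟩
        haveI : IsCyclic K := isCyclic_of_prime_card hK
        letI := IsCyclic.commGroup (α := K)
        exact congrArg Subtype.val (mul_comm (⟨a, ha⟩ : K) ⟨b, hb⟩))
      have h : d = n := Nat.cast_injective (R := ℂ) (hχ1.symm.trans hn)
      have hi := K.card_mul_index
      rw [hK, hcard] at hi
      rw [← h, h9, show K.index = 120 by omega] at hdv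
      norm_num at hdv
    obtain ⟨χ, hχ, hχ1, -⟩ := exists_of_mem hd
    set L := CfsgLib.PrincipalBlock.charKer (⟨χ, hχ⟩ : Cfsg.IrrCharacter G) with hLdef
    have hxL : (x' : G) ∈ L :=
      eq_one_of_conj_sq P (hP P) x'.2 hx hgx ⟨χ, hχ⟩ (by show χ 1 = 3; rw [hχ1, hd3]; norm_num)
    have hPL : (P : Subgroup G) ≤ L := by
      rw [← CfsgLib.Small.eq_zpowers_of_mem_prime (hP P) x'.2 hx]
      exact zpowers_le.2 hxL
    haveI : L.Normal := inferInstance
    obtain ⟨hLc, -⟩ := card_normal_options hcard h6 L fun Q => sylow_le_of_normal L P Q hPL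
    have hi := L.card_mul_index
    rw [hcard] at hi
    -- the character lives on the quotient
    obtain ⟨ψ, hψ, hψv⟩ := exists_irr_quotient L hχ (fun z hz => CfsgLib.PrincipalBlock.mem_charKer.1 hz)
    have hψ1 : ψ 1 = ((d : ℕ) : ℂ) := by
      have h := hψv 1
      rw [QuotientGroup.mk_one] at h
      exact h.symm.trans hχ1
    haveI := Fintype.ofFinite (G ⧸ L)
    obtain ⟨-, hle, -⟩ := degree_facts (mem_charDegrees hψ hψ1)
    have hle' := hle.trans (Nat.le_of_dvd Nat.card_pos (Subgroup.index_dvd_card _))
    rw [← Subgroup.index_eq_card, hd3] at hle'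
    simp only [List.mem_cons, List.not_mem_nil, or_false] at hLc
    rcases hLc with e | e | e | e <;> rw [e] at hi <;> omega
  · -- kernel of order six
    set L := centralizer (K : Set G) with hLdef
    haveI : L.Normal := inferInstance
    obtain ⟨hLc, hLns⟩ := card_normal_options hcard h6 L hKP
    simp only [List.mem_cons, List.not_mem_nil, or_false] at hLc
    by_cases hab : IsMulCommutative K
    · have hKL : K ≤ L := fun a ha => mem_centralizer_iff.2 fun b hb =>
        congrArg Subtype.val (hab.is_comm.comm (⟨b, hb⟩ : K) ⟨a, ha⟩)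
      have hLtop : L = ⊤ := by
        refine Subgroup.eq_top_of_card_eq L ?_
        rw [hcard]
        by_contra hne
        haveI : Group.IsSolvable (K.subgroupOf L) := by
          haveI := hKsolv
          exact Group.isSolvable_of_isSolvable_injective (f := (Subgroup.subgroupOfEquivOfLe hKL).toMonoidHom)
            (MulEquiv.injective _)
        have hq : Nat.card (L ⧸ K.subgroupOf L) * 6 = Nat.card L := by
          rw [← Subgroup.index_eq_card, ← hK,
            ← Nat.card_congr (Subgroup.subgroupOfEquivOfLe hKL).toEquiv, Subgroup.index_mul_card]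
        refine hLns (CfsgLib.SolvCrit.isSolvable_of_normal_of_quotient (K.subgroupOf L) inferInstance ?_)
        rcases hLc with e | e | e | e
        · exact isSolvable_of_card (n := 10) (by norm_num) (by norm_num) (by decide +kernel) (by omega)
        · exact isSolvable_of_card (n := 20) (by norm_num) (by norm_num) (by decide +kernel) (by omega)
        · exact isSolvable_of_card (n := 30) (by norm_num) (by norm_num) (by decide +kernel) (by omega)
        · exact absurd e hne
      have hKZ : K ≤ center G := fun a ha => Subgroup.mem_center_iff.2 fun b =>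
        (mem_centralizer_iff.1 (show b ∈ L from hLtop ▸ mem_top b) a ha).symm
      have hidx : (center G).index ≤ 60 := by
        have h1 := Nat.le_of_dvd Nat.card_pos (card_dvd_of_le hKZ)
        have h2 := (center G).card_mul_index
        rw [hcard] at h2
        rw [hK] at h1
        nlinarith
      obtain ⟨-, hle, hd0'⟩ := degree_facts hd10
      have := Nat.le_of_dvd hd0' h10
      nlinarith
    · have hKL : K ⊓ L = ⊥ := by
        rw [eq_bot_iff]
        rintro a ⟨ha, haL⟩
        by_contra hne
        rw [Subgroup.mem_bot] at hne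
        refine hab ?_
        have haZ : (⟨a, ha⟩ : K) ∈ center K := mem_center_iff.2 fun b =>
          Subtype.ext (mem_centralizer_iff.1 haL b b.2)
        haveI : Nontrivial (center K) :=
          ⟨⟨⟨_, haZ⟩, 1, fun h => hne (congrArg (fun z : center K => ((z : K) : G)) h)⟩⟩
        have h1 : 1 < Nat.card (center K) := Finite.one_lt_card
        have h2 := (center K).card_mul_index
        rw [hK] at h2
        haveI : IsCyclic (K ⧸ center K) := by
          have h3 : (center K).index ∣ 6 := h2 ▸ Dvd.intro_left _ rfl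
          have h4 : (center K).index ≤ 3 := by nlinarith
          have h5 : 0 < (center K).index := Nat.pos_of_ne_zero Subgroup.index_ne_zero_of_finite
          have h6' : (center K).index = 1 ∨ (center K).index = 2 ∨ (center K).index = 3 := by omega
          rcases h6' with e | e | e
          · haveI : Subsingleton (K ⧸ center K) := by
              rw [Subgroup.index_eq_card] at e
              exact (Nat.card_eq_one_iff_unique.1 e).1
            infer_instance
          · haveI : Fact (Nat.Prime 2) := ⟨Nat.prime_two⟩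
            exact isCyclic_of_prime_card (p := 2) (by rw [← Subgroup.index_eq_card, e])
          · haveI : Fact (Nat.Prime 3) := ⟨Nat.prime_three⟩
            exact isCyclic_of_prime_card (p := 3) (by rw [← Subgroup.index_eq_card, e])
        exact ⟨⟨fun u v => commutative_of_cyclic_center_quotient (QuotientGroup.mk' (center K))
          (by rw [QuotientGroup.ker_mk']) u v⟩⟩
      let φ : K × L →* G :=
        { toFun := fun z => (z.1 : G) * z.2
          map_one' := by simp
          map_mul' := fun a b => by
            show ((a.1 * b.1 : K) : G) * ((a.2 * b.2 : L) : G) = _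
            rw [Subgroup.coe_mul, Subgroup.coe_mul, mul_assoc, ← mul_assoc (b.1 : G),
              mem_centralizer_iff.1 a.2.2 b.1 b.1.2]
            simp only [mul_assoc] }
      have hφ : Function.Injective φ := by
        rw [injective_iff_map_eq_one]
        rintro ⟨a, b⟩ h
        have h' : (a : G) * b = 1 := h
        have ha : (a : G) ∈ K ⊓ L := Subgroup.mem_inf.2 ⟨a.2, by
          rw [eq_inv_of_mul_eq_one_left h']; exact inv_mem b.2⟩
        rw [hKL, Subgroup.mem_bot] at ha
        rw [ha, one_mul] at h'
        exact Prod.ext (Subtype.ext ha) (Subtype.ext h')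
      have hprod : Nat.card (K × L) = 360 := by
        have h1 := Nat.card_le_card_of_injective φ hφ
        rw [Nat.card_prod, hK, hcard] at h1
        rw [Nat.card_prod, hK]
        rcases hLc with e | e | e | e <;> omega
      let e : K × L ≃* G := MulEquiv.ofBijective φ
        ((Nat.bijective_iff_injective_and_card φ).2 ⟨hφ, hprod.trans hcard.symm⟩)
      rw [← charDegrees_congr e] at hd
      obtain ⟨a, ha, b, hb, rfl⟩ := exists_factors_prod hd
      have hK2 : 2 ∈ Cfsg.charDegrees K := by
        haveI := Fintype.ofFinite K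
        by_contra hno
        refine hab ⟨⟨fun u v => CfsgLib.CharactersDeep.PrimePowerDegrees.comm_of_linear (fun ψ => ?_) u v⟩⟩
        obtain ⟨n, hn0, hn1, hn, hnd⟩ := CfsgLib.ClassPairs.exists_irr_degree ψ
        obtain ⟨-, hle, -⟩ := degree_facts (mem_charDegrees ψ.2 hn1)
        have hle' := hle.trans (Nat.le_of_dvd Nat.card_pos (Subgroup.index_dvd_card _))
        rw [hK] at hle'
        have hn3 : n < 3 := by nlinarith only [hle']
        have hn2 : n ≠ 2 := fun e => hno (e ▸ mem_charDegrees ψ.2 hn1)
        rw [hn1, show n = 1 by omega, Nat.cast_one]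
      have ha2 : a = 1 ∨ a = 2 := by
        haveI := Fintype.ofFinite K
        obtain ⟨-, hle, ha0⟩ := degree_facts ha
        have hle' := hle.trans (Nat.le_of_dvd Nat.card_pos (Subgroup.index_dvd_card _))
        rw [hK] at hle'
        have : a < 3 := by nlinarith only [hle']
        omega
      have h3b : 3 ∣ b := (Nat.Coprime.dvd_of_dvd_mul_left (by
        rcases ha2 with e | e <;> rw [e] <;> norm_num) h3d)
      refine hedge (2 * b) (charDegrees_congr e ▸ mul_mem_prod hK2 hb) ?_
      obtain ⟨j, rfl⟩ := h3b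
      exact ⟨j, by ring⟩

end CfsgLib.Classification.SmallGraph
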