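import Cfsg.Agent.Classification.SmallGraph.Simple
import Cfsg.Agent.Classification.SmallOrders.Kit

/-!
# Degree primes of the simple groups of orders 2520 and 5616
-/

set_option autoImplicit false
set_option linter.style.haveILetI false
set_option linter.unusedTactic false
set_option linter.unreachableTactic false

namespace CfsgLib.Classification.SmallGraph

open Cfsg CfsgLib.Small CfsgLib.Classification.SmallOrders CfsgLib.Classification.OrderRange

universe u

variable {S : Type u} [Group S] [Finite S] [IsSimpleGroup S]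

theorem kill_2520_five : primeKilled 2520 5 (fun _ => false)
    (fun n => decide (n ∈ [4, 6, 9, 14, 21, 24, 36])) true = true := by decide +kernel

theorem kill_2520_seven : primeKilled 2520 7 (fun n => decide (n % 5 = 0) || n == 3)
    (fun _ => false) false = true := by decide +kernel

theorem kill_5616 : primeKilled 5616 13 (fun n => decide (n % 3 = 0)) (fun _ => false) false = true := by
  decide +kernel

theorem killed_2520 :
    killed 2520 7 2 5 (fun _ => false) (fun _ => false) 1 false 1 2519 = true := by decide +kernel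

theorem cand_x_2520 : ∀ a < 51, (2520 % a = 0 ∧ (a % 7 = 1 ∨ a % 7 = 7 - 1) ∧ 2 ≤ a) →
    a ∈ [6, 8, 15, 20, 36] := by
  decide +kernel

theorem cand_y_2520 : ∀ d < 51, 2520 % d = 0 → (d % 7 = 3 ∨ d % 7 = 7 - 3) → d ∈ [3, 4, 10, 18, 24, 45] := by
  decide +kernel

theorem check_list_2520 : ∀ a ∈ ([6, 8, 15, 20, 36] : List ℕ), ∀ b ∈ ([6, 8, 15, 20, 36] : List ℕ), ∀ d ∈ ([3, 4, 10, 18, 24, 45] : List ℕ),
    1 + (a * a + b * b) + (7 - 1) / 3 * (d * d) ≠ 2520 := by
  decide +kernel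

theorem check_2520 : ∀ a < 51, ∀ b < 51, ∀ d < 51,
    (a % 7 = 1 ∨ a % 7 = 7 - 1) → 2520 % a = 0 → (b % 7 = 1 ∨ b % 7 = 7 - 1) → 2520 % b = 0 →
    (d % 7 = 3 ∨ d % 7 = 7 - 3) → 2520 % d = 0 → 2 ≤ a → 2 ≤ b → 2 ≤ d →
    1 + (a * a + b * b) + (7 - 1) / 3 * (d * d) ≠ 2520 :=
  fun a ha b hb d hd h1 h2 h3 h4 h5 h6 h7 h8 _ =>
    check_list_2520 a (cand_x_2520 a ha ⟨h2, h1, h7⟩) b (cand_x_2520 b hb ⟨h4, h3, h8⟩) d (cand_y_2520 d hd h6 h5)

theorem cand_x_5616 : ∀ a < 76, (5616 % a = 0 ∧ (a % 13 = 1 ∨ a % 13 = 13 - 1) ∧ 2 ≤ a) →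
    a ∈ [12, 27] := by
  decide +kernel

theorem cand_y_5616 : ∀ d < 76, 5616 % d = 0 → (d % 13 = 3 ∨ d % 13 = 13 - 3) → d ∈ [3, 16, 36] := by
  decide +kernel

theorem check_list_5616 : ∀ a ∈ ([12, 27] : List ℕ), ∀ b ∈ ([12, 27] : List ℕ), ∀ d ∈ ([3, 16, 36] : List ℕ),
    1 + (a * a + b * b) + (13 - 1) / 3 * (d * d) ≠ 5616 := by
  decide +kernel

theorem check_5616 : ∀ a < 76, ∀ b < 76, ∀ d < 76,
    (a % 13 = 1 ∨ a % 13 = 13 - 1) → 5616 % a = 0 → (b % 13 = 1 ∨ b % 13 = 13 - 1) → 5616 % b = 0 →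
    (d % 13 = 3 ∨ d % 13 = 13 - 3) → 5616 % d = 0 → 2 ≤ a → 2 ≤ b → 2 ≤ d →
    1 + (a * a + b * b) + (13 - 1) / 3 * (d * d) ≠ 5616 :=
  fun a ha b hb d hd h1 h2 h3 h4 h5 h6 h7 h8 _ =>
    check_list_5616 a (cand_x_5616 a ha ⟨h2, h1, h7⟩) b (cand_x_5616 b hb ⟨h4, h3, h8⟩) d (cand_y_5616 d hd h6 h5)

theorem sylow_options_2520 : ∀ n < 361, 360 % n = 0 → n % 7 = 1 →
    n = 1 ∨ n = 8 ∨ n = 15 ∨ n = 36 ∨ n = 120 := by
  decide +kernel

theorem sylow_seven_2520 (h : Nat.card S = 2520) [Fact (Nat.Prime 7)] (P : Sylow 7 S) :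
    Nat.card (P : Subgroup S) = 7 ∧
      Nat.card (Subgroup.normalizer ((P : Subgroup S) : Set S)) = 7 * 3 ∧
      Subgroup.centralizer ((P : Subgroup S) : Set S) = (P : Subgroup S) := by
  haveI := Fintype.ofFinite S
  have hna := not_comm_of_card h (by norm_num)
  have hN : Nat.card S = 7 ^ 1 * 360 := h
  have hP : Nat.card (P : Subgroup S) = 7 := by
    rw [CfsgLib.Small.card_sylow_eq hN (by norm_num) P, pow_one]
  have hd : 7 ∣ Nat.card S := by rw [h]; norm_num
  have hnd := CfsgLib.Small.card_sylow_dvd (G := S) hN (by norm_num)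
  have hne := card_sylow_ne_one hna hd
  have hcases := sylow_options_2520 _ (Nat.lt_succ_of_le (Nat.le_of_dvd (by norm_num) hnd))
    (Nat.mod_eq_zero_of_dvd hnd ▸ rfl) (card_sylow_mod (G := S) 7)
  obtain ⟨r, c, hr, hr1, hNc, hCc⟩ := exists_relIndex hna P hP
  have hmul := card_sylow_mul_card_normalizer P
  rw [hNc, h] at hmul
  have hr6 : r ≤ 6 := Nat.le_of_dvd (by norm_num) hr
  have hr0 : r ≠ 0 := by rintro rfl; simp at hr
  rcases hcases with e | e | e | e | e <;> rw [e] at hmul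
  · exact absurd e hne
  · exfalso
    have h1 := centralizer_eq_of_card_succ hna hd P hP e
    rw [h1, hP] at hCc
    obtain rfl : c = 1 := by omega
    omega
  · exfalso
    refine two_not_dvd_card_centralizer hna hd P hP (by norm_num) (by omega) ?_
    rw [hCc]
    interval_cases r <;> first | omega | (exfalso; norm_num at hr)
  · exfalso
    have hr2 : r = 2 ∧ c = 5 := by
      interval_cases r <;> first | omega | (exfalso; norm_num at hr)
    obtain ⟨rfl, rfl⟩ := hr2
    have hrel : (Subgroup.centralizer ((P : Subgroup S) : Set S)).relIndex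
        (Subgroup.normalizer ((P : Subgroup S) : Set S)) = 2 := by
      have h1 := card_centralizer_mul_relIndex (P : Subgroup S)
      rw [hCc, hNc] at h1
      omega
    obtain ⟨L, d, h1, h2, h3, h4, h5, h6, h7, h8, h9, -, -, -⟩ :=
      block_degrees hna (by norm_num) P hP h (by norm_num) hrel le_rfl (by norm_num) hCc
    rcases killed_spec L false 1 2519 (by simpa [show L.length = 1 by omega] using killed_2520) h2 d h3 h4 h5
      h6 h7 h8 h9 with ⟨x, -, hx⟩ | hx | ⟨hx, -, -⟩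
    · exact Bool.false_ne_true hx
    · exact Bool.false_ne_true hx
    · exact Bool.false_ne_true hx
  · have hc : r = 3 ∧ c = 1 := by
      interval_cases r <;> first | omega | (exfalso; norm_num at hr)
    obtain ⟨rfl, rfl⟩ := hc
    refine ⟨hP, by omega, ?_⟩
    haveI : IsCyclic (P : Subgroup S) := isCyclic_of_prime_card hP
    exact (Subgroup.eq_of_le_of_card_ge (Subgroup.le_centralizer _) (by rw [hP, hCc])).symm

theorem primes_2520 (h : Nat.card S = 2520) :
    5 ∈ Cfsg.degreePrimes S ∧ 7 ∈ Cfsg.degreePrimes S := by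
  haveI : Fact (Nat.Prime 5) := ⟨by norm_num⟩
  haveI : Fact (Nat.Prime 7) := ⟨by norm_num⟩
  have hna := not_comm_of_card h (by norm_num)
  constructor
  · rcases degrees_of_primeKilled (p := 5) hna h kill_2520_five with ⟨χ, hχ⟩ | ⟨-, h5⟩
    · exact absurd hχ Bool.false_ne_true
    rcases degrees_of_primeKilled (p := 7) hna h kill_2520_seven with ⟨χ, hχ⟩ | ⟨hf, -⟩
    · rw [Bool.or_eq_true, decide_eq_true_eq, beq_iff_eq] at hχ
      rcases hχ with hχ | hχ
      · exact ⟨by norm_num, _, ⟨χ, rfl⟩, Nat.dvd_of_mod_eq_zero hχ⟩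
      · exfalso
        have := h5 χ
        rw [hχ] at this
        simp at this
    · exact absurd hf Bool.false_ne_true
  · obtain ⟨P⟩ : Nonempty (Sylow 7 S) := inferInstance
    obtain ⟨hP, hn, hC⟩ := sylow_seven_2520 h P
    exact mem_degreePrimes_of_block hna h (by norm_num) P hP hC hn 51 (by norm_num) check_2520

theorem primes_5616 (h : Nat.card S = 5616) :
    3 ∈ Cfsg.degreePrimes S ∧ 13 ∈ Cfsg.degreePrimes S := by
  haveI : Fact (Nat.Prime 13) := ⟨by norm_num⟩
  have hna := not_comm_of_card h (by norm_num)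
  constructor
  · rcases degrees_of_primeKilled (p := 13) hna h kill_5616 with ⟨χ, hχ⟩ | ⟨hf, -⟩
    · exact ⟨Nat.prime_three, _, ⟨χ, rfl⟩, Nat.dvd_of_mod_eq_zero (of_decide_eq_true hχ)⟩
    · exact absurd hf Bool.false_ne_true
  · obtain ⟨P⟩ : Nonempty (Sylow 13 S) := inferInstance
    obtain ⟨hP, hn, hC⟩ := Order5616.sylow_thirteen hna h P
    exact mem_degreePrimes_of_block hna h (by norm_num) P hP hC hn 76 (by norm_num) check_5616

end CfsgLib.Classification.SmallGraph
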