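import Cfsg.Agent.Classification.SmallGraph.Numbers
import Cfsg.Agent.Classification.SmallGraph.Degrees

/-!
# Non-simple groups of the orders 168, 660, 1092, 2448, 3420, 4080, 5616 and solvable ones of order 504
-/

set_option autoImplicit false
set_option linter.style.haveILetI false

namespace CfsgLib.Classification.SmallGraph

open Subgroup

universe u

variable {G : Type u} [Group G] [Finite G] {p : ℕ} [hp : Fact p.Prime]

theorem sylow_cases {m : ℕ} (hcard : Nat.card G = p * m) (hpm : ¬ p ∣ m) :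
    (∀ P : Sylow p G, Nat.card (P : Subgroup G) = p) ∧
      ∀ (L : List ℕ), (∀ n < m + 1, m % n = 0 → n % p = 1 → n ∈ L) → Nat.card (Sylow p G) ∈ L := by
  have h : Nat.card G = p ^ 1 * m := by rw [pow_one, hcard]
  refine ⟨fun P => by rw [CfsgLib.Small.card_sylow_eq h hpm P, pow_one], fun L hL => ?_⟩
  have hd := CfsgLib.Small.card_sylow_dvd (G := G) h hpm
  exact hL _ (Nat.lt_succ_of_le (Nat.le_of_dvd
    (Nat.pos_of_ne_zero fun e => hpm (by rw [e]; exact dvd_zero p)) hd))
    (Nat.mod_eq_zero_of_dvd hd ▸ rfl) (CfsgLib.Small.card_sylow_mod (G := G) p)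

/-- A single Sylow subgroup of prime order: its prime divides no degree. -/
theorem not_mem_of_card_sylow_one {m : ℕ} (hcard : Nat.card G = p * m) (hpm : ¬ p ∣ m)
    (h1 : Nat.card (Sylow p G) = 1) : p ∉ Cfsg.degreePrimes G := by
  obtain ⟨P⟩ : Nonempty (Sylow p G) := inferInstance
  haveI : Subsingleton (Sylow p G) := (Nat.card_eq_one_iff_unique.mp h1).1
  haveI : (P : Subgroup G).Normal := Sylow.normal_of_subsingleton P
  have hP := (sylow_cases hcard hpm).1 P
  haveI : IsCyclic (P : Subgroup G) := isCyclic_of_prime_card hP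
  refine not_mem_degreePrimes_of_normal_abelian (P : Subgroup G) (fun a ha b hb => ?_) ?_
  · letI := IsCyclic.commGroup (α := (P : Subgroup G))
    exact congrArg Subtype.val (mul_comm (⟨a, ha⟩ : (P : Subgroup G)) ⟨b, hb⟩)
  · have := (P : Subgroup G).card_mul_index
    rw [hP, hcard] at this
    rwa [Nat.eq_of_mul_eq_mul_left hp.out.pos this]

/-- One exceptional Sylow number which is not a Hall number. -/
theorem not_mem_of_good {N m l a r : ℕ} (h0 : 0 < N) (hN : N < 6000) (hNm : N = p * m)
    (hlist : ∀ l ∈ simpleOrders.filter (fun l => decide (N % l = 0 ∧ l ≠ N)), ¬ p ∣ l)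
    (hpm : ¬ p ∣ m) (hopt : ∀ n < m + 1, m % n = 0 → n % p = 1 → n ∈ [1, l ^ a * r])
    (hl : l.Prime) (hr : ¬ l ∣ r) (hmod : l ^ a % p ≠ 1 % p)
    (hcard : Nat.card G = N) (hns : ¬ IsSimpleGroup G) : p ∉ Cfsg.degreePrimes G := by
  have hgood := good_of_not_simple (p := p) h0 hN hlist (G := G) (dvd_of_eq hcard) fun _ => hns
  have hc : Nat.card G = p * m := hcard.trans hNm
  have h := (sylow_cases hc hpm).2 _ hopt
  rw [List.mem_cons, List.mem_singleton] at h
  rcases h with h | h
  · exact not_mem_of_card_sylow_one hc hpm h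
  · exact (hgood.false_of_factor hl h hr hmod).elim

/-- A solvable group with Sylow number `1` or a prime power. -/
theorem not_mem_or_of_solvable [Group.IsSolvable G] {l k m : ℕ} [Fact l.Prime]
    (hcard : Nat.card G = p * l ^ k * m) (hlp : l ≠ p) (hpm : ¬ p ∣ m) (hlm : ¬ l ∣ m) (hk : 0 < k)
    (hj : ∀ j < k, 0 < j → l ^ j % p ≠ 1)
    (hn : Nat.card (Sylow p G) = 1 ∨ Nat.card (Sylow p G) = l ^ k) :
    p ∉ Cfsg.degreePrimes G ∨ l ∉ Cfsg.degreePrimes G := by
  have hl := (Fact.out : l.Prime)
  rcases hn with h | h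
  · refine Or.inl (not_mem_of_card_sylow_one (m := l ^ k * m) (by rw [hcard, mul_assoc]) ?_ h)
    exact hp.out.not_dvd_mul
      (fun e => hlp ((Nat.prime_dvd_prime_iff_eq hp.out hl).1 (hp.out.dvd_of_dvd_pow e)).symm) hpm
  · obtain ⟨A, hA, hab, hi⟩ := exists_normal_abelian hcard hlp hpm hlm hk h hj
    haveI := hA
    refine Or.inr (not_mem_degreePrimes_of_normal_abelian A hab ?_)
    rw [hi]
    exact hl.not_dvd_mul (fun e => hlp ((Nat.prime_dvd_prime_iff_eq hl hp.out).1 e)) hlm

omit hp in
theorem false_168 (hcard : Nat.card G = 168) (hns : ¬ IsSimpleGroup G)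
    (h7 : 7 ∈ Cfsg.degreePrimes G) (h2 : 2 ∈ Cfsg.degreePrimes G) : False := by
  haveI : Fact (Nat.Prime 7) := ⟨by norm_num⟩
  haveI : Fact (Nat.Prime 2) := ⟨Nat.prime_two⟩
  haveI := isSolvable_of_not_simple (N := 168) (by norm_num) (by norm_num) (by decide +kernel)
    (G := G) (dvd_of_eq hcard) fun _ => hns
  have h := (sylow_cases (m := 24) (p := 7) (by rw [hcard]) (by norm_num)).2 [1, 8] (by decide +kernel)
  simp only [List.mem_cons, List.not_mem_nil, or_false] at h
  rcases not_mem_or_of_solvable (p := 7) (l := 2) (k := 3) (m := 3) (by rw [hcard]; norm_num)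
    (by norm_num) (by norm_num) (by norm_num) (by norm_num) (by decide) h with h' | h'
  exacts [h' h7, h' h2]

omit hp in
theorem false_504_solvable [Group.IsSolvable G] (hcard : Nat.card G = 504)
    (h7 : 7 ∈ Cfsg.degreePrimes G) (h2 : 2 ∈ Cfsg.degreePrimes G) : False := by
  haveI : Fact (Nat.Prime 7) := ⟨by norm_num⟩
  haveI : Fact (Nat.Prime 2) := ⟨Nat.prime_two⟩
  have hgood := good_of_isSolvable (p := 7) (G := G) inferInstance
  have h := (sylow_cases (m := 72) (p := 7) (by rw [hcard]) (by norm_num)).2 [1, 8, 36] (by decide +kernel)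
  simp only [List.mem_cons, List.not_mem_nil, or_false] at h
  have h' : Nat.card (Sylow 7 G) = 1 ∨ Nat.card (Sylow 7 G) = 2 ^ 3 := by
    rcases h with h | h | h
    · exact Or.inl h
    · exact Or.inr h
    · exact (hgood.false_of_factor (l := 2) (a := 2) (m := 9) Nat.prime_two h (by norm_num) (by norm_num)).elim
  rcases not_mem_or_of_solvable (p := 7) (l := 2) (k := 3) (m := 9) (by rw [hcard]; norm_num)
    (by norm_num) (by norm_num) (by norm_num) (by norm_num) (by decide) h' with h' | h'
  exacts [h' h7, h' h2]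

omit hp in
theorem false_5616 (hcard : Nat.card G = 5616) (hns : ¬ IsSimpleGroup G)
    (h13 : 13 ∈ Cfsg.degreePrimes G) (h3 : 3 ∈ Cfsg.degreePrimes G) : False := by
  haveI : Fact (Nat.Prime 13) := ⟨by norm_num⟩
  haveI : Fact (Nat.Prime 3) := ⟨Nat.prime_three⟩
  haveI := isSolvable_of_not_simple (N := 5616) (by norm_num) (by norm_num) (by decide +kernel)
    (G := G) (dvd_of_eq hcard) fun _ => hns
  have hgood := good_of_isSolvable (p := 13) (G := G) inferInstance
  have h := (sylow_cases (m := 432) (p := 13) (by rw [hcard]) (by norm_num)).2 [1, 27, 144]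
    (by decide +kernel)
  simp only [List.mem_cons, List.not_mem_nil, or_false] at h
  have h' : Nat.card (Sylow 13 G) = 1 ∨ Nat.card (Sylow 13 G) = 3 ^ 3 := by
    rcases h with h | h | h
    · exact Or.inl h
    · exact Or.inr h
    · exact (hgood.false_of_factor (l := 2) (a := 4) (m := 9) Nat.prime_two h (by norm_num) (by norm_num)).elim
  rcases not_mem_or_of_solvable (p := 13) (l := 3) (k := 3) (m := 16) (by rw [hcard]; norm_num)
    (by norm_num) (by norm_num) (by norm_num) (by norm_num) (by decide) h' with h' | h'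
  exacts [h' h13, h' h3]

omit hp in
theorem not_mem_large (hns : ¬ IsSimpleGroup G) :
    (Nat.card G = 660 → 11 ∉ Cfsg.degreePrimes G) ∧ (Nat.card G = 1092 → 13 ∉ Cfsg.degreePrimes G) ∧
    (Nat.card G = 2448 → 17 ∉ Cfsg.degreePrimes G) ∧ (Nat.card G = 3420 → 19 ∉ Cfsg.degreePrimes G) ∧
    (Nat.card G = 4080 → 17 ∉ Cfsg.degreePrimes G) := by
  haveI : Fact (Nat.Prime 11) := ⟨by norm_num⟩
  haveI : Fact (Nat.Prime 13) := ⟨by norm_num⟩
  haveI : Fact (Nat.Prime 17) := ⟨by norm_num⟩
  haveI : Fact (Nat.Prime 19) := ⟨by norm_num⟩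
  refine ⟨fun h => ?_, fun h => ?_, fun h => ?_, fun h => ?_, fun h => ?_⟩
  · exact not_mem_of_good (m := 60) (l := 2) (a := 2) (r := 3) (by norm_num) (by norm_num) rfl
      (by decide +kernel) (by norm_num) (by decide +kernel) Nat.prime_two (by norm_num) (by norm_num) h hns
  · exact not_mem_of_good (m := 84) (l := 2) (a := 1) (r := 7) (by norm_num) (by norm_num) rfl
      (by decide +kernel) (by norm_num) (by decide +kernel) Nat.prime_two (by norm_num) (by norm_num) h hns
  · exact not_mem_of_good (m := 144) (l := 2) (a := 1) (r := 9) (by norm_num) (by norm_num) rfl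
      (by decide +kernel) (by norm_num) (by decide +kernel) Nat.prime_two (by norm_num) (by norm_num) h hns
  · exact not_mem_of_good (m := 180) (l := 2) (a := 2) (r := 5) (by norm_num) (by norm_num) rfl
      (by decide +kernel) (by norm_num) (by decide +kernel) Nat.prime_two (by norm_num) (by norm_num) h hns
  · exact not_mem_of_good (m := 240) (l := 2) (a := 3) (r := 15) (by norm_num) (by norm_num) rfl
      (by decide +kernel) (by norm_num) (by decide +kernel) Nat.prime_two (by norm_num) (by norm_num) h hns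

end CfsgLib.Classification.SmallGraph
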