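import Cfsg.Agent.SylowNumber.Basic
import Cfsg.Agent.Small.SylowArgs
import Cfsg.Agent.Solvable.Basic
import Cfsg.Agent.SolvCrit.AbelianMaximal
import Mathlib

/-!
# Sylow numbers in groups with few simple sections
-/

set_option autoImplicit false
set_option linter.style.haveILetI false
set_option linter.unusedSectionVars false

namespace CfsgLib.Classification.SmallGraph

open Subgroup

universe u

/-- All prime-power parts are `1` modulo `p`. -/
def Good (p n : ℕ) : Prop := ∀ l : ℕ, l.Prime → l ^ n.factorization l ≡ 1 [MOD p]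

theorem good_one (p : ℕ) : Good p 1 := fun l _ => by simp [Nat.ModEq]

theorem Good.mul {p a b : ℕ} (ha : Good p a) (hb : Good p b) (ha0 : a ≠ 0) (hb0 : b ≠ 0) :
    Good p (a * b) := fun l hl => by
  rw [Nat.factorization_mul ha0 hb0, Finsupp.add_apply, pow_add]
  simpa using (ha l hl).mul (hb l hl)

/-- Induction along normal subgroups and quotients, for the orders dividing `N`. -/
theorem induction_sections {motive : ∀ (X : Type u) [Group X], Prop} (N : ℕ)
    (hcomm : ∀ (X : Type u) [Group X] [Finite X], IsMulCommutative X → motive X)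
    (hsimple : ∀ (X : Type u) [Group X] [Finite X], Nat.card X ∣ N → Nat.card X ≠ N →
      IsSimpleGroup X → ¬ IsMulCommutative X → motive X)
    (hext : ∀ (X : Type u) [Group X] [Finite X] (M : Subgroup X) [M.Normal], Nat.card X ∣ N →
      motive M → motive (X ⧸ M) → motive X) :
    ∀ (X : Type u) [Group X] [Finite X], Nat.card X ∣ N →
      (Nat.card X = N → ¬ IsSimpleGroup X) → motive X := by
  suffices ∀ n : ℕ, ∀ (X : Type u) [Group X] [Finite X], Nat.card X = n → Nat.card X ∣ N →
      (Nat.card X = N → ¬ IsSimpleGroup X) → motive X from fun X _ _ => this _ X rfl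
  intro n
  induction n using Nat.strong_induction_on with
  | _ n ih =>
    intro X _ _ hn hdvd hns
    rcases subsingleton_or_nontrivial X with hsub | hnt
    · exact hcomm X ⟨⟨fun a b => Subsingleton.elim _ _⟩⟩
    by_cases hs : IsSimpleGroup X
    · by_cases hc : IsMulCommutative X
      · exact hcomm X hc
      · exact hsimple X hdvd (fun h => hns h hs) hs hc
    obtain ⟨M, hM, hM1, hM2⟩ : ∃ M : Subgroup X, M.Normal ∧ M ≠ ⊥ ∧ M ≠ ⊤ := by
      by_contra hno
      push Not at hno
      exact hs ⟨fun N hN => (em (N = ⊥)).imp id (hno N hN)⟩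
    haveI := hM
    have h2 : 1 < Nat.card M := M.one_lt_card_iff_ne_bot.2 hM1
    have h3 : Nat.card M * M.index = Nat.card X := M.card_mul_index
    have h4 : 1 < M.index := Subgroup.one_lt_index_of_ne_top hM2
    have hlt1 : Nat.card M < Nat.card X := by
      rw [← h3]; exact lt_mul_of_one_lt_right (by omega) h4
    have hlt2 : Nat.card (X ⧸ M) < Nat.card X := by
      rw [← Subgroup.index_eq_card, ← h3]; exact lt_mul_of_one_lt_left (by omega) h2
    refine hext X M hdvd
      (ih _ (hn ▸ hlt1) M rfl (M.card_subgroup_dvd_card.trans hdvd) fun h => ?_)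
      (ih _ (hn ▸ hlt2) (X ⧸ M) rfl ((M.card_quotient_dvd_card).trans hdvd) fun h => ?_)
    · have : 0 < N := h ▸ Nat.card_pos
      have := Nat.le_of_dvd this hdvd
      omega
    · have : 0 < N := h ▸ Nat.card_pos
      have := Nat.le_of_dvd this hdvd
      omega

section

variable {G : Type u} [Group G] [Finite G] {p : ℕ} [hp : Fact p.Prime]

theorem sylow_ne_zero : Nat.card (Sylow p G) ≠ 0 := Nat.card_pos.ne'

theorem good_of_normal (M : Subgroup G) [M.Normal] (hM : Good p (Nat.card (Sylow p M)))
    (hQ : Good p (Nat.card (Sylow p (G ⧸ M)))) : Good p (Nat.card (Sylow p G)) := by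
  obtain ⟨c, -, hc, hgood⟩ := CfsgLib.SylowNumber.card_sylow_eq (p := p) M
  rw [hc]
  have hc0 : c ≠ 0 := fun h => sylow_ne_zero (p := p) (G := G) (by rw [hc, h, mul_zero])
  exact (hQ.mul hM sylow_ne_zero sylow_ne_zero).mul hgood
    (mul_ne_zero sylow_ne_zero sylow_ne_zero) hc0

theorem card_sylow_of_not_dvd (h : ¬ p ∣ Nat.card G) : Nat.card (Sylow p G) = 1 := by
  obtain ⟨P⟩ : Nonempty (Sylow p G) := inferInstance
  have hbot : (P : Subgroup G) = ⊥ := Subgroup.card_eq_one.1 (by
    rw [P.card_eq_multiplicity, Nat.factorization_eq_zero_of_not_dvd h, pow_zero])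
  haveI : (P : Subgroup G).Normal := hbot ▸ inferInstance
  haveI := Sylow.unique_of_normal P inferInstance
  exact Nat.card_unique

theorem card_sylow_of_comm (h : IsMulCommutative G) : Nat.card (Sylow p G) = 1 := by
  obtain ⟨P⟩ : Nonempty (Sylow p G) := inferInstance
  haveI : (P : Subgroup G).Normal := ⟨fun n hn g => by
    rwa [h.is_comm.comm g n, mul_inv_cancel_right]⟩
  haveI := Sylow.unique_of_normal P inferInstance
  exact Nat.card_unique

/-- A Sylow number prime to the order of a normal subgroup: it normalises the Sylow subgroups. -/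
theorem normal_le_normalizer (M : Subgroup G) [M.Normal]
    (h : (Nat.card M).Coprime (Nat.card (Sylow p G))) (P : Sylow p G) :
    M ≤ normalizer ((P : Subgroup G) : Set G) := by
  rw [← Subgroup.relIndex_eq_one]
  refine Nat.eq_one_of_dvd_coprimes h (relIndex_dvd_card _ _) ?_
  rw [CfsgLib.SylowNumber.card_sylow_eq_mul_relIndex M P]
  exact dvd_mul_left _ _

/-- A normal `p'`-subgroup normalising a Sylow `p`-subgroup centralises it. -/
theorem le_centralizer_of_normal (M : Subgroup G) [M.Normal] (hM : ¬ p ∣ Nat.card M) (P : Sylow p G)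
    (hle : M ≤ normalizer ((P : Subgroup G) : Set G)) :
    (P : Subgroup G) ≤ centralizer (M : Set G) := by
  intro x hx
  rw [mem_centralizer_iff]
  intro m hm
  have h1 : m * x * m⁻¹ * x⁻¹ ∈ (P : Subgroup G) :=
    mul_mem ((mem_normalizer_iff.1 (hle hm) x).1 hx) (inv_mem hx)
  have h2 : m * x * m⁻¹ * x⁻¹ ∈ M := by
    rw [show m * x * m⁻¹ * x⁻¹ = m * (x * m⁻¹ * x⁻¹) by group]
    exact mul_mem hm ((inferInstance : M.Normal).conj_mem _ (inv_mem hm) x)
  obtain ⟨k, hk⟩ := P.2.exists_card_eq
  have h3 := Nat.eq_one_of_dvd_coprimes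
    (((hp.out.coprime_iff_not_dvd).2 hM).pow_left k)
    (hk ▸ Subgroup.orderOf_dvd_natCard _ h1) (Subgroup.orderOf_dvd_natCard _ h2)
  have h4 := orderOf_eq_one_iff.1 h3
  calc m * x = m * x * m⁻¹ * x⁻¹ * (x * m) := by group
    _ = x * m := by rw [h4, one_mul]

/-- A normal subgroup containing one Sylow subgroup contains all. -/
theorem sylow_le_of_normal (M : Subgroup G) [M.Normal] (P Q : Sylow p G)
    (h : (P : Subgroup G) ≤ M) : (Q : Subgroup G) ≤ M := by
  obtain ⟨g, rfl⟩ := MulAction.exists_smul_eq G P Q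
  rw [Sylow.coe_subgroup_smul, ← Subgroup.Normal.conj_smul_eq_self g M]
  exact Subgroup.pointwise_smul_le_pointwise_smul_iff.2 h

theorem card_sylow_of_le (M : Subgroup G) [M.Normal] (h : ∀ P : Sylow p G, (P : Subgroup G) ≤ M) :
    Nat.card (Sylow p M) = Nat.card (Sylow p G) := by
  obtain ⟨P⟩ : Nonempty (Sylow p G) := inferInstance
  refine (Nat.card_congr (Equiv.ofBijective (fun Q : Sylow p G => Q.subtype (h Q)) ⟨?_, ?_⟩)).symm
  · intro Q R hQR
    exact Sylow.subtype_injective (hP := h Q) (hQ := h R) hQR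
  · intro S
    obtain ⟨m, hm⟩ := MulAction.exists_smul_eq M (P.subtype (h P)) S
    exact ⟨(m : G) • P, by rw [← hm, Sylow.smul_subtype]; rfl⟩

/-- Every element of prime-power order `l ^ j` lies in a normal subgroup of index prime to `l`. -/
theorem mem_of_index_not_dvd (C : Subgroup G) [C.Normal] {l : ℕ} (hl : l.Prime)
    (hC : ¬ l ∣ C.index) {S : Subgroup G} (hS : IsPGroup l S) : S ≤ C := by
  intro s hs
  rw [← QuotientGroup.eq_one_iff, ← orderOf_eq_one_iff]
  obtain ⟨j, hj⟩ := hS ⟨s, hs⟩
  have hj' : (s : G) ^ l ^ j = 1 := congrArg Subtype.val hj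
  refine Nat.eq_one_of_dvd_coprimes (((hl.coprime_iff_not_dvd).2 hC).pow_left j)
    ((orderOf_map_dvd (QuotientGroup.mk' C) s).trans (orderOf_dvd_of_pow_eq_one hj')) ?_
  rw [Subgroup.index_eq_card]
  exact orderOf_dvd_natCard _

end

/-- A group with `p`-numbers as in a solvable group of this shape has an abelian normal subgroup
of order `l ^ k`. -/
theorem exists_normal_abelian {G : Type u} [Group G] [Finite G] [Group.IsSolvable G] {p l k m : ℕ}
    [hp : Fact p.Prime] [hl : Fact l.Prime] (hcard : Nat.card G = p * l ^ k * m)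
    (hlp : l ≠ p) (hpm : ¬ p ∣ m) (hlm : ¬ l ∣ m) (hk : 0 < k)
    (hn : Nat.card (Sylow p G) = l ^ k)
    (hj : ∀ j < k, 0 < j → l ^ j % p ≠ 1) :
    ∃ A : Subgroup G, A.Normal ∧ (∀ a ∈ A, ∀ b ∈ A, a * b = b * a) ∧ A.index = p * m := by
  classical
  have hm0 : 0 < m := Nat.pos_of_ne_zero fun h => hpm (h ▸ dvd_zero p)
  have hcop_ml : m.Coprime (l ^ k) :=
    Nat.Coprime.pow_right k ((hl.out.coprime_iff_not_dvd.2 hlm).symm)
  -- a maximal normal subgroup of order dividing `m`
  haveI : Finite {R : Subgroup G // R.Normal ∧ Nat.card R ∣ m} := inferInstance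
  obtain ⟨⟨R, hRn, hRm⟩, -, hmax⟩ := Finite.exists_le_maximal
    (p := fun _ : {R : Subgroup G // R.Normal ∧ Nat.card R ∣ m} => True)
    (a := ⟨⊥, inferInstance, by simp⟩) trivial
  haveI := hRn
  have hpR : ¬ p ∣ Nat.card R := fun h => hpm (h.trans hRm)
  have hRN : ∀ P : Sylow p G, R ≤ normalizer ((P : Subgroup G) : Set G) :=
    normal_le_normalizer R (hn ▸ Nat.Coprime.coprime_dvd_left hRm hcop_ml)
  have hnt : Nontrivial (G ⧸ R) := by
    rw [← Finite.one_lt_card_iff_nontrivial, ← Subgroup.index_eq_card]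
    refine Subgroup.one_lt_index_of_ne_top fun h => hpR ?_
    rw [h, Subgroup.card_top, hcard, mul_assoc]
    exact dvd_mul_right _ _
  obtain ⟨W, hWn, hW1, hWmin⟩ := CfsgLib.Solvable.exists_minimal_normal (G := G ⧸ R)
  haveI := hWn
  obtain ⟨r, hr, hWr⟩ := CfsgLib.Solvable.exists_isPGroup_of_minimal_normal hW1 hWmin
  haveI := Fact.mk hr
  obtain ⟨b, hb⟩ := hWr.exists_card_eq
  have hb0 : b ≠ 0 := fun h => hW1 (Subgroup.card_eq_one.1 (by rw [hb, h, pow_zero]))
  set L := W.comap (QuotientGroup.mk' R) with hLdef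
  haveI : L.Normal := inferInstance
  have hLcard : Nat.card L = Nat.card R * r ^ b := by
    have h1 := L.card_mul_index
    have h2 := W.card_mul_index
    have h3 := R.card_mul_index
    rw [hLdef, Subgroup.index_comap_of_surjective _ (QuotientGroup.mk'_surjective R), ← hLdef] at h1
    rw [hb, ← Subgroup.index_eq_card] at h2
    rw [← h2, ← mul_assoc, ← h1] at h3
    exact Nat.eq_of_mul_eq_mul_right (Nat.pos_of_ne_zero Subgroup.index_ne_zero_of_finite) h3.symm
  have hRL : R ≤ L := fun x hx => by
    show (QuotientGroup.mk' R) x ∈ W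
    rw [QuotientGroup.mk'_apply, (QuotientGroup.eq_one_iff x).2 hx]
    exact one_mem W
  have hLG : Nat.card L ∣ Nat.card G := L.card_subgroup_dvd_card
  have hrl : r = l := by
    by_contra hrl
    by_cases hrp : r = p
    · subst hrp
      obtain ⟨P⟩ : Nonempty (Sylow r G) := inferInstance
      have hPcard : Nat.card (P : Subgroup G) = r := by
        rw [CfsgLib.Small.card_sylow_eq (k := 1) (m := l ^ k * m) (by rw [hcard, pow_one, mul_assoc])
          (hp.out.not_dvd_mul (fun h => hlp ((Nat.prime_dvd_prime_iff_eq hp.out hl.out).1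
            (hp.out.dvd_of_dvd_pow h)).symm) hpm) P, pow_one]
      have hle : ∀ Q : Sylow r G, (Q : Subgroup G) ≤ L := by
        intro Q
        refine mem_of_index_not_dvd L hp.out ?_ Q.2
        intro h
        have h1 : r * r ∣ Nat.card G := by
          rw [← L.card_mul_index, hLcard]
          exact mul_dvd_mul (dvd_mul_of_dvd_right (dvd_pow_self r hb0) _) h
        rw [hcard, mul_assoc] at h1
        exact (hp.out.not_dvd_mul (fun h => hlp ((Nat.prime_dvd_prime_iff_eq hp.out hl.out).1
            (hp.out.dvd_of_dvd_pow h)).symm) hpm) (Nat.dvd_of_mul_dvd_mul_left hp.out.pos h1)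
      have h1 : Nat.card (Sylow r L) ∣ Nat.card R := by
        have hb1 : b = 1 := by
          refine le_antisymm ?_ (Nat.pos_of_ne_zero hb0)
          by_contra hb2
          obtain ⟨Q⟩ : Nonempty (Sylow r G) := inferInstance
          have h2 : r ^ 2 ∣ Nat.card G :=
            ((pow_dvd_pow r (by omega : 2 ≤ b)).trans (hLcard ▸ dvd_mul_left _ _)).trans hLG
          have h3 := (hp.out.pow_dvd_iff_le_factorization Nat.card_pos.ne').1 h2
          have h4 := Q.card_eq_multiplicity
          obtain ⟨g, hg⟩ := MulAction.exists_smul_eq G P Q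
          have h5 : Nat.card (Q : Subgroup G) = r := by
            rw [← hg, Sylow.coe_subgroup_smul]
            exact (CfsgLib.Solvable.card_conj_smul g _).trans hPcard
          rw [h5] at h4
          have h6 := Nat.pow_right_injective hp.out.two_le (h4.symm.trans (pow_one r).symm)
          omega
        exact CfsgLib.Small.card_sylow_dvd (k := 1) (by rw [hLcard, hb1, mul_comm]) hpR
      rw [card_sylow_of_le L hle, hn] at h1
      exact hlm ((dvd_pow_self l hk.ne').trans (h1.trans hRm))
    · -- the preimage would be larger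
      have hdm : Nat.card L ∣ m := by
        refine (Nat.Coprime.dvd_of_dvd_mul_left ?_ (hcard ▸ hLG : Nat.card L ∣ p * l ^ k * m))
        rw [hLcard]
        refine Nat.Coprime.mul_left ?_ ?_
        · refine Nat.Coprime.mul_right ?_ (Nat.Coprime.coprime_dvd_left hRm hcop_ml)
          exact ((hp.out.coprime_iff_not_dvd).2 hpR).symm
        · refine Nat.Coprime.pow_left b (Nat.Coprime.mul_right ?_ ?_)
          · exact (Nat.coprime_primes hr hp.out).2 hrp
          · exact Nat.Coprime.pow_right k ((Nat.coprime_primes hr hl.out).2 hrl)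
      have hle := hmax.2 (y := ⟨L, inferInstance, hdm⟩) trivial hRL
      have hLR : L = R := le_antisymm hle hRL
      rw [hLR] at hLcard
      have : r ^ b = 1 := (mul_eq_left₀ Nat.card_pos.ne').1 hLcard.symm
      exact hb0 ((Nat.pow_eq_one.1 this).resolve_left hr.ne_one)
  subst hrl
  -- the centraliser of `R` contains all `r`-subgroups
  set C := centralizer (R : Set G) with hC
  haveI : C.Normal := inferInstance
  have hPC : ∀ P : Sylow p G, (P : Subgroup G) ≤ C := fun P => le_centralizer_of_normal R hpR P (hRN P)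
  have hCi : ¬ r ∣ C.index := by
    intro h
    have h1 : r ^ k ∣ Nat.card C := by
      rw [← hn, ← card_sylow_of_le C hPC]
      obtain ⟨S⟩ : Nonempty (Sylow p C) := inferInstance
      rw [S.card_eq_index_normalizer]
      exact index_dvd_card _
    have h2 : r ^ (k + 1) ∣ Nat.card G := by
      rw [← C.card_mul_index, pow_succ]; exact mul_dvd_mul h1 h
    rw [hcard, pow_succ, mul_comm p, mul_assoc] at h2
    exact (hr.not_dvd_mul (fun h => hlp ((Nat.prime_dvd_prime_iff_eq hr hp.out).1 h)) hlm)
      (Nat.dvd_of_mul_dvd_mul_left (pow_pos hr.pos k) h2)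
  obtain ⟨Q⟩ : Nonempty (Sylow r L) := inferInstance
  set Q' := (Q : Subgroup L).map L.subtype with hQ'
  have hQ'C : Q' ≤ C := mem_of_index_not_dvd C hr hCi (Q.2.map _)
  have hQcard : Nat.card (Q : Subgroup L) = r ^ b := by
    rw [CfsgLib.Small.card_sylow_eq (k := b) (m := Nat.card R) (by rw [hLcard, mul_comm])
      (fun h => hlm (h.trans hRm)) Q]
  have hQn : (Q : Subgroup L).Normal := by
    refine Subgroup.normalizer_eq_top_iff.1 (top_le_iff.1 ?_)
    have hR' : R.subgroupOf L ≤ normalizer ((Q : Subgroup L) : Set L) := by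
      refine le_trans ?_ (Subgroup.centralizer_le_normalizer _)
      intro x hx
      rw [mem_centralizer_iff]
      intro q hq
      have := mem_centralizer_iff.1 (hQ'C ⟨q, hq, rfl⟩) (x : G) hx
      exact Subtype.ext this.symm
    have hle : (Q : Subgroup L) ≤ normalizer ((Q : Subgroup L) : Set L) := le_normalizer
    intro x _
    have hcop : (Nat.card (R.subgroupOf L)).Coprime (Nat.card (Q : Subgroup L)) := by
      rw [Nat.card_congr (Subgroup.subgroupOfEquivOfLe hRL).toEquiv, hQcard]
      exact Nat.Coprime.pow_right b ((hr.coprime_iff_not_dvd.2 fun h => hlm (h.trans hRm)).symm)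
    have hd : Nat.card L ∣ Nat.card (normalizer ((Q : Subgroup L) : Set L)) := by
      rw [hLcard, ← Nat.card_congr (Subgroup.subgroupOfEquivOfLe hRL).toEquiv, ← hQcard]
      exact hcop.mul_dvd_of_dvd_of_dvd (card_dvd_of_le hR') (card_dvd_of_le hle)
    rw [Subgroup.eq_top_of_card_eq _ (Nat.dvd_antisymm (card_subgroup_dvd_card _) hd)]
    exact Subgroup.mem_top x
  haveI : Q'.Normal := by
    haveI := hQn
    haveI : (Q : Subgroup L).Characteristic := Sylow.characteristic_of_normal Q hQn
    exact ConjAct.normal_of_characteristic_of_normal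
  -- its centre
  have hQ'card : Nat.card Q' = r ^ b := by
    rw [hQ', Subgroup.card_map_of_injective L.subtype_injective, hQcard]
  haveI : Nontrivial Q' := Finite.one_lt_card_iff_nontrivial.1 (by
    rw [hQ'card]; exact Nat.one_lt_pow hb0 hr.one_lt)
  have hQ'p : IsPGroup r Q' := IsPGroup.of_card hQ'card
  set A := (center Q').map Q'.subtype with hA
  haveI : A.Normal := ConjAct.normal_of_characteristic_of_normal
  have hAab : ∀ a ∈ A, ∀ b ∈ A, a * b = b * a := by
    rintro _ ⟨a, ha, rfl⟩ _ ⟨b, -, rfl⟩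
    exact congrArg Subtype.val (mem_center_iff.1 ha b).symm
  obtain ⟨j, hjc⟩ := ((hQ'p.to_subgroup (center Q')).map Q'.subtype).exists_card_eq
  rw [← hA] at hjc
  have hj0 : 0 < j := by
    refine Nat.pos_of_ne_zero fun h => ?_
    have h1 : Nat.card A = 1 := by rw [hjc, h, pow_zero]
    rw [hA, Subgroup.card_map_of_injective Q'.subtype_injective] at h1
    haveI := hQ'p.center_nontrivial
    exact absurd h1 (Finite.one_lt_card (α := center Q')).ne'
  refine ⟨A, inferInstance, hAab, ?_⟩
  have hjk : j ≤ k := by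
    have h1 : r ^ j ∣ p * r ^ k * m := by rw [← hjc, ← hcard]; exact A.card_subgroup_dvd_card
    have hcop : (r ^ j).Coprime (p * m) := Nat.Coprime.pow_left j
      (Nat.Coprime.mul_right ((Nat.coprime_primes hr hp.out).2 hlp) (hr.coprime_iff_not_dvd.2 hlm))
    rw [show p * r ^ k * m = r ^ k * (p * m) by ring] at h1
    exact (Nat.pow_dvd_pow_iff_le_right hr.one_lt).1 (hcop.dvd_of_dvd_mul_right h1)
  rcases lt_or_eq_of_le hjk with hlt | rfl
  · exfalso
    obtain ⟨P⟩ : Nonempty (Sylow p G) := inferInstance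
    have heq := CfsgLib.SylowNumber.card_sylow_eq_mul_relIndex A P
    obtain ⟨i, hij, hi⟩ := (Nat.dvd_prime_pow hr).1
      (hjc ▸ relIndex_dvd_card (normalizer ((P : Subgroup G) : Set G)) A)
    have hmod : r ^ i % p = 1 := by
      have h1 := card_sylow_modEq_one p G
      have h2 := card_sylow_modEq_one p (G ⧸ A)
      rw [heq, hi] at h1
      have h3 : r ^ i ≡ 1 [MOD p] := by
        simpa using ((h2.mul_right (r ^ i)).symm.trans h1)
      rw [Nat.ModEq, Nat.one_mod_eq_one.2 hp.out.ne_one] at h3
      exact h3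
    rcases Nat.eq_zero_or_pos i with rfl | hi0
    · rw [pow_zero] at hi
      have hle : A ≤ normalizer ((P : Subgroup G) : Set G) := Subgroup.relIndex_eq_one.1 hi
      have h1 : r ∣ Nat.card (normalizer ((P : Subgroup G) : Set G)) :=
        (dvd_pow_self r hj0.ne').trans (hjc ▸ card_dvd_of_le hle)
      have h2 := CfsgLib.Small.card_sylow_mul_card_normalizer P
      rw [hn, hcard] at h2
      have h3 : Nat.card (normalizer ((P : Subgroup G) : Set G)) = p * m :=
        Nat.eq_of_mul_eq_mul_left (pow_pos hr.pos k) (h2.trans (by ring))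
      rw [h3] at h1
      exact (hr.not_dvd_mul (fun h => hlp ((Nat.prime_dvd_prime_iff_eq hr hp.out).1 h)) hlm) h1
    · exact hj i (lt_of_le_of_lt hij hlt) hi0 hmod
  · have h1 := A.card_mul_index
    rw [hjc, hcard, show p * r ^ j * m = r ^ j * (p * m) by ring] at h1
    exact Nat.eq_of_mul_eq_mul_left (pow_pos hr.pos j) h1

end CfsgLib.Classification.SmallGraph
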